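import Cfsg.Agent.Chev.CyclicTorus.E6.Weyl

/-! Type `E6`: an element with an eigenvalue of order twelve modulo a prime has characteristic polynomial `Φ₁₂Φ₃`. -/

set_option autoImplicit false
set_option linter.unusedSectionVars false
set_option linter.style.haveILetI false
set_option maxHeartbeats 1600000

open Cfsg.Lie

namespace Cfsg.Lib.CyclicTorus

open Cfsg.Lib.Chev Matrix Polynomial

theorem eval_cyclotomic_twelve (x : ℤ) : (cyclotomic 12 ℤ).eval x = x ^ 4 - x ^ 2 + 1 := by
  have h := congrArg (Polynomial.eval x)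
    (cyclotomic_expand_eq_cyclotomic (p := 2) (n := 6) Nat.prime_two (by norm_num) ℤ)
  rw [expand_eval, cyclotomic_six] at h
  simp only [eval_add, eval_sub, eval_pow, eval_X, eval_one] at h
  norm_num at h
  rw [← h]
  ring

theorem exists_primitive_int_vec {l : ℕ} {z : Fin l → ℤ} (hz : z ≠ 0) :
    ∃ (g : ℤ) (z' : Fin l → ℤ), g ≠ 0 ∧ z = g • z' ∧ ∃ i, (z' i : ZMod 2) ≠ 0 := by
  classical
  have hne : (Finset.univ : Finset (Fin l)).Nonempty := by
    obtain ⟨i, -⟩ := Function.ne_iff.1 hz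
    exact ⟨i, Finset.mem_univ _⟩
  obtain ⟨z', h1, h2⟩ := Finset.extract_gcd z hne
  have hg : Finset.univ.gcd z ≠ 0 := fun h => by
    obtain ⟨i, hi⟩ := Function.ne_iff.1 hz
    exact hi (Finset.gcd_eq_zero_iff.1 h i (Finset.mem_univ _))
  refine ⟨_, z', hg, funext fun i => h1 i (Finset.mem_univ _), ?_⟩
  by_contra hno
  push Not at hno
  have h3 : (2 : ℤ) ∣ Finset.univ.gcd z' := Finset.dvd_gcd fun i _ => by
    have := (ZMod.intCast_zmod_eq_zero_iff_dvd _ _).1 (hno i)
    simpa using this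
  rw [h2] at h3
  omega

theorem aeval_map_matrix {l : ℕ} (M : Matrix (Fin l) (Fin l) ℤ) (P : ℤ[X]) :
    aeval (M.map (Int.castRingHom ℚ)) (P.map (Int.castRingHom ℚ)) = (aeval M P).map (Int.castRingHom ℚ) := by
  induction P using Polynomial.induction_on' with
  | add a b ha hb =>
    rw [Polynomial.map_add, map_add, map_add, ha, hb]
    exact (Matrix.map_add _ (map_add (Int.castRingHom ℚ)) _ _).symm
  | monomial k c =>
    rw [Polynomial.map_monomial, aeval_monomial, aeval_monomial, ← RingHom.mapMatrix_apply, ← RingHom.mapMatrix_apply,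
      map_mul, map_pow]
    simp

variable {D : ChevalleyDatum} {C : Cert} {a : Fin D.rank → Fin D.rank → ℤ}

theorem matL_mulVec_radical (L : List (Fin D.rank)) {v : Fin D.rank → ℤ}
    (hv : ∀ m : Fin D.rank, (chiZ D (D.simple m) v : ZMod 3) = 0) :
    ∀ i, ((matL D L *ᵥ v) i : ZMod 3) = (v i : ZMod 3) := by
  induction L with
  | nil => intro i; simp [matL]
  | cons j L ih =>
    intro i
    have e : matL D (j :: L) = Rm D j * matL D L := by simp [matL]
    rw [e, ← Matrix.mulVec_mulVec, Rm_mulVec, Pi.sub_apply, Int.cast_sub, ih i]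
    by_cases h : i = j
    · subst h
      rw [Pi.single_eq_same, chiZ_congr (r := 3) ih, hv, sub_zero]
    · simp [Pi.single_eq_of_ne h]

theorem e6_element (S : Struct D C) (hU : Uni D a) (hF : E6Facts D) {r : ℕ} [Fact r.Prime]
    (hW : ¬ r ∣ Nat.card ↥S.WG) {q : ℤ} (hq : IsPrimitiveRoot (q : ZMod r) 12) (w : ↥S.WG)
    {y : Fin D.rank → ℤ} (hy : ∃ i, (y i : ZMod r) ≠ 0)
    (heig : ∀ i, ((matW S hU w *ᵥ y) i : ZMod r) = (q : ZMod r) * (y i : ZMod r)) :
    (matW S hU w).charpoly = cyclotomic 12 ℤ * cyclotomic 3 ℤ ∧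
      ∀ s : Fin D.nroots, (chiZ D s y : ZMod r) ≠ 0 := by
  classical
  set M := matW S hU w with hMdef
  have hm : M ^ orderOf w = 1 := by rw [hMdef, ← map_pow, pow_orderOf_eq_one, map_one]
  have hrm : ¬ r ∣ orderOf w := fun h => hW (h.trans (orderOf_dvd_natCard w))
  have hmonic := Matrix.charpoly_monic M
  have hrootm := root_pow_eq_one M hm
  obtain ⟨Q, hQ⟩ := cyclotomic_dvd_of_root (orderOf_pos w) hrm hq hmonic hrootm (isRoot_charpoly_of_eigen M hy heig)
  have hQm : Q.Monic := (cyclotomic.monic _ ℤ).of_mul_monic_left (hQ ▸ hmonic)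
  have ht12 : Nat.totient 12 = 4 := by decide +kernel
  have hQd : Q.natDegree = 2 := by
    have h1 := congrArg natDegree hQ
    rw [Matrix.charpoly_natDegree_eq_dim, Fintype.card_fin, (cyclotomic.monic _ ℤ).natDegree_mul hQm,
      natDegree_cyclotomic, hF.rank, ht12] at h1
    omega
  have hQroot : ∀ z : ℂ, (Q.map (Int.castRingHom ℂ)).IsRoot z → z ^ orderOf w = 1 := fun z hz => hrootm z (by
    rw [hQ, Polynomial.map_mul, IsRoot.def, eval_mul, hz, mul_zero])
  have hQq : ¬ (Q.map (Int.castRingHom (ZMod r))).IsRoot (q : ZMod r) := fun h => by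
    have h1 := natDegree_le_of_dvd (cyclotomic_dvd_of_root (orderOf_pos w) hrm hq hQm hQroot h) hQm.ne_zero
    rw [natDegree_cyclotomic, ht12, hQd] at h1
    omega
  -- a rational vector killed by `Φ₁₂` and by the roots vanishing at `y`
  obtain ⟨z, c, hc0, -, hzc, hkill⟩ := exists_killed S hU hW y hy
  let Mq : Matrix (Fin D.rank) (Fin D.rank) ℚ := M.map (Int.castRingHom ℚ)
  let z' : Fin D.rank → ℤ := aeval M Q *ᵥ z
  have hz'q : ∀ i, (z' i : ZMod r) = c * ((Q.map (Int.castRingHom (ZMod r))).eval (q : ZMod r) * (y i : ZMod r)) := by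
    have hpow : ∀ (k : ℕ) (i : Fin D.rank), (((M ^ k) *ᵥ z) i : ZMod r) = (q : ZMod r) ^ k * (z i : ZMod r) := by
      intro k
      induction k with
      | zero => intro i; simp
      | succ k ih =>
        intro i
        rw [pow_succ', ← Matrix.mulVec_mulVec, ← congrFun (red_mulVec r M _) i, funext ih]
        have e : (fun j => (q : ZMod r) ^ k * (z j : ZMod r)) =
            ((q : ZMod r) ^ k * c) • fun j => (y j : ZMod r) := funext fun j => by
          rw [Pi.smul_apply, smul_eq_mul, hzc j]; ring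
        rw [e, Matrix.mulVec_smul, Pi.smul_apply, smul_eq_mul, congrFun (red_mulVec r M y) i, heig i, hzc i]
        ring
    intro i
    show ((aeval M Q *ᵥ z) i : ZMod r) = _
    rw [aeval_eq_sum_range, Matrix.sum_mulVec, Finset.sum_apply, Int.cast_sum,
      eval_map, eval₂_eq_sum_range, Finset.sum_mul, Finset.mul_sum]
    refine Finset.sum_congr rfl fun k _ => ?_
    rw [Matrix.smul_mulVec, Pi.smul_apply, smul_eq_mul, Int.cast_mul, hpow, hzc, eq_intCast]
    ring
  have hz'0 : z' ≠ 0 := fun h => by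
    obtain ⟨i, hi⟩ := hy
    have h1 := hz'q i
    rw [h, Pi.zero_apply, Int.cast_zero, eq_comm, mul_eq_zero, mul_eq_zero] at h1
    rcases h1 with h1 | h1 | h1
    · exact hc0 h1
    · exact hQq h1
    · exact hi h1
  have hCH : aeval M (cyclotomic 12 ℤ) *ᵥ z' = 0 := by
    show aeval M (cyclotomic 12 ℤ) *ᵥ (aeval M Q *ᵥ z) = 0
    rw [Matrix.mulVec_mulVec, ← map_mul, ← hQ, Matrix.aeval_self_charpoly, Matrix.zero_mulVec]
  let zq : Fin D.rank → ℚ := fun i => (z' i : ℚ)
  have hcast : ∀ (A : Matrix (Fin D.rank) (Fin D.rank) ℤ) (t : Fin D.rank → ℤ),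
      A.map (Int.castRingHom ℚ) *ᵥ (fun i => (t i : ℚ)) = fun i => ((A *ᵥ t) i : ℚ) := fun A t => by
    funext i
    simp [Matrix.mulVec, dotProduct]
  have hli : LinearIndependent ℚ (fun k : Fin (Nat.totient 12) => Mq ^ (k : ℕ) *ᵥ zq) := by
    refine linearIndependent_orbit Mq (by norm_num) (fun h => hz'0 (funext fun i => Int.cast_eq_zero.1 (congrFun h i))) ?_
    have e : aeval Mq (cyclotomic 12 ℚ) = (aeval M (cyclotomic 12 ℤ)).map (Int.castRingHom ℚ) := by
      rw [← map_cyclotomic 12 (Int.castRingHom ℚ)]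
      exact aeval_map_matrix M _
    rw [e, hcast, hCH]
    simp
    rfl
  rw [ht12] at hli
  -- the roots vanishing at `y`
  let Ψ := Finset.univ.filter fun s : Fin D.nroots => (chiZ D s y : ZMod r) = 0
  have horbz : ∀ s ∈ Ψ, ∀ j : ℕ, chiZ D s (M ^ j *ᵥ z) = 0 := fun s hs j => by
    rw [hMdef, ← map_pow, chiZ_matW_inv S hU]
    refine hkill _ ?_
    rw [SubgroupClass.coe_pow, ← inv_pow, chi_eigen_stable S hU hW w heig j s, (Finset.mem_filter.1 hs).2, mul_zero]
  have hΨ : ∀ s ∈ Ψ, ∀ k : Fin 4, (fun j : Fin D.rank => (D.cartan j s : ℚ)) ⬝ᵥ (Mq ^ (k : ℕ) *ᵥ zq) = 0 := by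
    intro s hs k
    have h0 : chiZ D s (M ^ (k : ℕ) *ᵥ z') = 0 := by
      show chiZ D s (M ^ (k : ℕ) *ᵥ (aeval M Q *ᵥ z)) = 0
      rw [aeval_eq_sum_range, Matrix.sum_mulVec, Matrix.mulVec_sum]
      have hadd : ∀ (t : Finset ℕ) (f : ℕ → Fin D.rank → ℤ), (∀ i ∈ t, chiZ D s (f i) = 0) →
          chiZ D s (∑ i ∈ t, f i) = 0 := fun t f hf => by
        induction t using Finset.induction_on with
        | empty => simp [chiZ]
        | insert x t hx ih =>
          rw [Finset.sum_insert hx, chiZ_add, hf x (Finset.mem_insert_self _ _),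
            ih fun i hi => hf i (Finset.mem_insert_of_mem hi), add_zero]
      refine hadd _ _ fun j _ => ?_
      rw [Matrix.smul_mulVec, Matrix.mulVec_smul, Matrix.mulVec_mulVec, ← pow_add]
      have h1 := horbz s hs (k + j)
      simp only [chiZ, Pi.smul_apply, smul_eq_mul, mul_left_comm, ← Finset.mul_sum] at h1 ⊢
      rw [h1, mul_zero]
    have e : Mq ^ (k : ℕ) *ᵥ zq = fun i => ((M ^ (k : ℕ) *ᵥ z') i : ℚ) := by
      rw [← hcast]
      congr 1
      exact (map_pow (Int.castRingHom ℚ).mapMatrix M k).symm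
    rw [e]
    have h1 := congrArg (Int.cast : ℤ → ℚ) h0
    simpa [chiZ, dotProduct] using h1
  obtain ⟨T, hT4, hT0, hTmem⟩ := card_image_le_four hF.rank S Ψ _ hli hΨ
  have hsmall : Ψ.card ≤ 6 := by
    have h1 : Ψ.card ≤ 2 * (Ψ.image fun s : Fin D.nroots => cm D s).card := by
      refine Finset.card_le_mul_card_image_of_maps_to (fun s hs => Finset.mem_image_of_mem _ hs) 2 fun b hb => ?_
      obtain ⟨s, -, rfl⟩ := Finset.mem_image.1 hb
      by_cases hn : D.neg s.val < D.nroots
      · refine le_trans (Finset.card_le_card (t := {s, ⟨D.neg s.val, hn⟩}) fun t ht => ?_) Finset.card_le_two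
        rw [Finset.mem_filter] at ht
        rcases hF.pairs s t ht.2.symm with h | h
        · simp [h]
        · simp [Finset.mem_insert, Finset.mem_singleton, Fin.ext_iff, h]
      · exact absurd (S.ok.neg_eq s.isLt ▸ S.ok.neg_lt s.isLt) hn
    have h2 : (Ψ.image fun s : Fin D.nroots => cm D s) ⊆ T.erase 0 := fun b hb => by
      obtain ⟨s, hs, rfl⟩ := Finset.mem_image.1 hb
      exact Finset.mem_erase.2 ⟨hF.nz s, hTmem s hs⟩
    have h3 := Finset.card_le_card h2
    rw [Finset.card_erase_of_mem hT0] at h3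
    omega
  set σ : Equiv.Perm (Fin D.nroots) := (w : Equiv.Perm (Fin D.nroots))⁻¹ with hσ
  have hstab1 : ∀ s, (chiZ D (σ s) y : ZMod r) = (q : ZMod r) * (chiZ D s y : ZMod r) := fun s => by
    simpa [hσ] using chi_eigen_stable S hU hW w heig 1 s
  have hq0 : (q : ZMod r) ≠ 0 := hq.ne_zero (by norm_num)
  have hreg : ∀ s : Fin D.nroots, (chiZ D s y : ZMod r) ≠ 0 := by
    intro s0 hs0
    let f : Equiv.Perm {s : Fin D.nroots // (chiZ D s y : ZMod r) ≠ 0} :=
      σ.subtypePerm fun s => by rw [hstab1, mul_ne_zero_iff]; exact and_iff_right hq0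
    have h12 : 12 ∣ Fintype.card {s : Fin D.nroots // (chiZ D s y : ZMod r) ≠ 0} := by
      refine dvd_card_of_period f 12 fun s k hk => ?_
      have h1 := chi_eigen_stable S hU hW w heig k s.1
      have e : ((σ ^ k) s.1) = s.1 := by
        have := congrArg Subtype.val hk
        rwa [Equiv.Perm.subtypePerm_pow] at this
      rw [← hσ, e] at h1
      refine hq.dvd_of_pow_eq_one k ?_
      exact (mul_eq_right₀ s.2).1 h1.symm
    have hΨc : Fintype.card {s : Fin D.nroots // (chiZ D s y : ZMod r) ≠ 0} + Ψ.card = D.nroots := by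
      rw [Fintype.card_subtype_compl, ← Fintype.card_subtype, Fintype.card_fin, Nat.sub_add_cancel]
      simpa using Fintype.card_subtype_le fun s : Fin D.nroots => (chiZ D s y : ZMod r) = 0
    have hpos : 0 < Ψ.card := Finset.card_pos.2 ⟨s0, Finset.mem_filter.2 ⟨Finset.mem_univ _, hs0⟩⟩
    have := hF.twelve
    omega
  refine ⟨?_, hreg⟩
  -- the order of `w`
  have hpow12 : w ^ 12 = 1 := by
    refine eq_one_of_fix_mod S hU hW hreg _ fun i => ?_
    have hk : ∀ (k : ℕ) (i : Fin D.rank), ((matW S hU (w ^ k) *ᵥ y) i : ZMod r) = (q : ZMod r) ^ k * (y i : ZMod r) := by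
      intro k
      induction k with
      | zero => intro i; simp
      | succ k ih =>
        intro i
        rw [pow_succ', map_mul, ← Matrix.mulVec_mulVec, ← congrFun (red_mulVec r _ _) i, funext ih]
        have e : (fun j => (q : ZMod r) ^ k * (y j : ZMod r)) = ((q : ZMod r) ^ k) • fun j => (y j : ZMod r) :=
          funext fun j => by rw [Pi.smul_apply, smul_eq_mul]
        rw [e, Matrix.mulVec_smul, Pi.smul_apply, smul_eq_mul, congrFun (red_mulVec r _ y) i, ← hMdef, heig i]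
        ring
    rw [hk, hq.pow_eq_one, one_mul]
  -- no vector fixed by the fourth power
  have hfix4 : ∀ v : Fin D.rank → ℤ, M ^ 4 *ᵥ v = v → v = 0 := by
    intro v hv
    by_contra hv0
    obtain ⟨g, v', hg, hvv, hv2⟩ := exists_primitive_int_vec hv0
    have hv' : M ^ 4 *ᵥ v' = v' := by
      rw [hvv, Matrix.mulVec_smul] at hv
      exact smul_right_injective (Fin D.rank → ℤ) hg hv
    refine hF.count v' hv2 ?_
    let ρ : Equiv.Perm (Fin D.nroots) := σ ^ 4
    have hρ : ∀ s, chiZ D (ρ s) v' = chiZ D s v' := fun s => by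
      have h1 := chiZ_matW_inv S hU (w ^ 4) s v'
      rw [map_pow, ← hMdef, hv', SubgroupClass.coe_pow, ← inv_pow, ← hσ] at h1
      exact h1.symm
    let f : Equiv.Perm {s : Fin D.nroots // (chiZ D s v' : ZMod 2) = 0} := ρ.subtypePerm fun s => by rw [hρ]
    refine dvd_card_of_period f 3 fun s k hk => ?_
    have e : ((σ ^ (4 * k)) s.1) = s.1 := by
      have := congrArg Subtype.val hk
      rw [Equiv.Perm.subtypePerm_pow] at this
      rw [pow_mul]
      exact this
    have h1 := chi_eigen_stable S hU hW w heig (4 * k) s.1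
    rw [← hσ, e] at h1
    have h2 := hq.dvd_of_pow_eq_one _ ((mul_eq_right₀ (hreg s.1)).1 h1.symm)
    omega
  have hQ4 : ∀ z : ℂ, (Q.map (Int.castRingHom ℂ)).IsRoot z → z ^ 4 ≠ 1 := by
    intro ζ hz hz4
    have hdet : Matrix.det (M ^ 4 - 1) = 0 := by
      have hz' : Matrix.det (Matrix.scalar (Fin D.rank) ζ - M.map (Int.castRingHom ℂ)) = 0 := by
        have h1 : (M.charpoly.map (Int.castRingHom ℂ)).IsRoot ζ := by
          rw [hQ, Polynomial.map_mul, IsRoot.def, eval_mul, hz, mul_zero]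
        rwa [← Matrix.charpoly_map, IsRoot.def, Matrix.eval_charpoly] at h1
      obtain ⟨v, hv0, hv⟩ := Matrix.exists_mulVec_eq_zero_iff.2 hz'
      rw [Matrix.sub_mulVec, sub_eq_zero] at hv
      have hMv : M.map (Int.castRingHom ℂ) *ᵥ v = ζ • v := by
        rw [← hv]; funext i; simp [Matrix.mulVec_diagonal]
      have h4 : M.map (Int.castRingHom ℂ) ^ 4 *ᵥ v = v := by
        simp only [pow_succ, pow_zero, one_mul, ← Matrix.mulVec_mulVec, hMv, Matrix.mulVec_smul, smul_smul]
        rw [show ζ * (ζ * (ζ * ζ)) = ζ ^ 4 by ring, hz4, one_smul]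
      refine (Int.cast_eq_zero (α := ℂ)).1 ?_
      rw [← eq_intCast (Int.castRingHom ℂ), RingHom.map_det, map_sub, map_pow, map_one,
        RingHom.mapMatrix_apply, ← Matrix.exists_mulVec_eq_zero_iff]
      exact ⟨v, hv0, by rw [Matrix.sub_mulVec, h4, Matrix.one_mulVec, sub_self]⟩
    obtain ⟨v, hv0, hv⟩ := Matrix.exists_mulVec_eq_zero_iff.2 hdet
    rw [Matrix.sub_mulVec, Matrix.one_mulVec, sub_eq_zero] at hv
    exact hv0 (hfix4 v hv)
  -- the quadratic factor
  obtain ⟨ζ, hζ⟩ := IsAlgClosed.exists_root (Q.map (Int.castRingHom ℂ)) (by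
    rw [degree_eq_natDegree (hQm.map _).ne_zero, hQm.natDegree_map, hQd]; norm_num)
  have h12 : ζ ^ 12 = 1 := root_pow_eq_one M (m := 12) (by rw [hMdef, ← map_pow, hpow12, map_one]) ζ (by
    rw [hQ, Polynomial.map_mul, IsRoot.def, eval_mul, hζ, mul_zero])
  have hζo : IsPrimitiveRoot ζ (orderOf ζ) := IsPrimitiveRoot.orderOf ζ
  have ho12 : orderOf ζ ∣ 12 := orderOf_dvd_iff_pow_eq_one.2 h12
  have ho0 : 0 < orderOf ζ := Nat.pos_of_dvd_of_pos ho12 (by norm_num)
  have hdiv : cyclotomic (orderOf ζ) ℤ ∣ Q := by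
    rw [cyclotomic_eq_minpoly hζo ho0]
    refine minpoly.isIntegrallyClosed_dvd (hζo.isIntegral ho0) ?_
    rw [aeval_def, ← eval_map]
    exact hζ
  have hle := natDegree_le_of_dvd hdiv hQm.ne_zero
  rw [natDegree_cyclotomic, hQd] at hle
  have ho4 : ¬ orderOf ζ ∣ 4 := fun h => hQ4 ζ hζ (orderOf_dvd_iff_pow_eq_one.1 h)
  have hcases : orderOf ζ = 3 ∨ orderOf ζ = 6 := by
    have hmem : orderOf ζ ∈ Nat.divisors 12 := Nat.mem_divisors.2 ⟨ho12, by norm_num⟩
    rw [show Nat.divisors 12 = {1, 2, 3, 4, 6, 12} by decide +kernel] at hmem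
    simp only [Finset.mem_insert, Finset.mem_singleton] at hmem
    rcases hmem with h | h | h | h | h | h
    · exact absurd (by rw [h]; norm_num) ho4
    · exact absurd (by rw [h]; norm_num) ho4
    · exact Or.inl h
    · exact absurd (by rw [h]) ho4
    · exact Or.inr h
    · rw [h, ht12] at hle; omega
  have hQeq : Q = cyclotomic (orderOf ζ) ℤ := by
    refine eq_of_monic_of_dvd_of_natDegree_le (cyclotomic.monic _ ℤ) hQm hdiv ?_
    rw [natDegree_cyclotomic, hQd]
    rcases hcases with h | h <;> rw [h] <;> decide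
  rcases hcases with h | h
  · rw [hQ, hQeq, h]
  · exfalso
    obtain ⟨v, ⟨i, hi⟩, hv⟩ := hF.rad
    obtain ⟨L, hL⟩ := S.exists_wpL w.2
    have hdet3 : (((Matrix.scalar (Fin D.rank) (1 : ℤ) - M).det : ℤ) : ZMod 3) = 0 := by
      rw [← eq_intCast (Int.castRingHom (ZMod 3)), RingHom.map_det, ← Matrix.exists_mulVec_eq_zero_iff]
      refine ⟨fun j => (v j : ZMod 3), fun h0 => hi (congrFun h0 i), ?_⟩
      rw [map_one (Matrix.scalar (Fin D.rank)), map_sub, map_one, Matrix.sub_mulVec, Matrix.one_mulVec, sub_eq_zero]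
      funext j
      rw [hMdef, matW_eq S hU w hL.symm]
      exact ((congrFun (red_mulVec 3 (matL D L) v) j).trans (matL_mulVec_radical L hv j)).symm
    rw [← Matrix.eval_charpoly, hQ, hQeq, h, eval_mul, eval_cyclotomic_twelve, cyclotomic_six] at hdet3
    simp at hdet3

end Cfsg.Lib.CyclicTorus
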