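import Cfsg.Agent.Chev.CyclicTorus.Conj
import Cfsg.Agent.Chev.St.Embed

/-! Lifting to Steinberg's group: an injective torus, the action of a field endomorphism, and conjugation of the torus
by lifts of Weyl group representatives. -/

set_option autoImplicit false
set_option linter.unusedSectionVars false
set_option linter.style.haveILetI false
set_option maxHeartbeats 800000

open Cfsg.Lie

namespace Cfsg.Lib.CyclicTorus

open Cfsg.Lib.Chev Matrix

/-- Agreement of the Cartan entries of the fundamental roots. -/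
def okCartAgree (D E : ChevalleyDatum) : Bool :=
  decide (D.rank ≤ E.rank) && (List.range D.rank).all fun i => (List.range D.rank).all fun j =>
    decide (E.cartan j (E.simple i) = D.cartan j (D.simple i))

/-- A datum embedded in a bigger one whose torus separates the kernel of the adjoint representation. -/
structure Emb (D : ChevalleyDatum) (C : Cert) (E : ChevalleyDatum) (C' : Cert) where
  S : Struct D C
  hN : okNeg D = true
  ok : ∃ W, St.okSt D C W = true
  S' : Struct E C'
  io : List ℕ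
  hio : St.okEmb D E io = true
  d : ℕ
  k : ℕ
  v : List ℤ
  w : List ℤ
  B : List (List ℤ)
  ht : St.okTorus D d k v w B = true
  p : ℤ
  hp : St.okCol D E d v p = true
  hcart : okCartAgree D E = true

variable {D E : ChevalleyDatum} {C C' : Cert} (X : Emb D C E C') {K : Type*} [Field K]

/-- The map onto the adjoint group. -/
noncomputable def Emb.th : D.SteinbergGroup K →* GL D.Idx K :=
  St.toChev X.S (subset_refl (D.steinbergRels K))

theorem Emb.th_gen {r : ℕ} (hr : r < D.nroots) (t : K) :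
    X.th (St.pgen (D.steinbergRels K) r t) = X.S.ok.xG r t := St.toChev_pgen X.S _ hr t

/-- The map into the bigger group. -/
noncomputable def Emb.th' : D.SteinbergGroup K →* GL E.Idx K :=
  PresentedGroup.toGroup (f := fun p => X.S'.ok.xG (X.io.getD p.1.val 0) p.2)
    fun _ hg => St.lift_emb X.S X.S' X.hio hg

theorem Emb.th'_gen {r : ℕ} (hr : r < D.nroots) (t : K) :
    X.th' (St.pgen (D.steinbergRels K) r t) = X.S'.ok.xG (X.io.getD r 0) t := by
  rw [St.pgen, ChevalleyDatum.stX, dif_pos hr]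
  exact PresentedGroup.toGroup.of _

/-- Steinberg's data. -/
noncomputable def Emb.pres : St.Pres D C K (D.SteinbergGroup K) :=
  St.presentedPres X.S X.hN X.ok St.ab_subset X.th fun _ hr t => X.th_gen hr t

theorem Emb.gen_top : (X.pres (K := K)).gen {r | r < D.nroots} = ⊤ :=
  St.presentedPres_gen_top X.S X.hN X.ok St.ab_subset X.th fun _ hr t => X.th_gen hr t

theorem Emb.r3 : (X.pres (K := K)).R3 := St.r3_of_rels X.S X.hN X.ok X.th fun _ hr t => X.th_gen hr t

/-- The torus of Steinberg's group. -/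
noncomputable def Emb.tor : (Fin D.rank → Kˣ) →* D.SteinbergGroup K := (X.pres (K := K)).torus X.r3

theorem Emb.th_tor (c : Fin D.rank → Kˣ) : X.th (X.tor c) = Ok.tG D K c :=
  DFunLike.congr_fun ((X.pres (K := K)).θ_torus X.r3) c

include X in
theorem Emb.rank_le : D.rank ≤ E.rank := by
  have h := X.hcart
  simp only [okCartAgree, Bool.and_eq_true, decide_eq_true_eq] at h
  exact h.1

theorem Emb.io_simple (i : Fin D.rank) : X.io.getD (D.simple i) 0 = E.simple i :=
  (St.emb_spec X.hio).2.1 i.val i.isLt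

theorem Emb.io_neg {r : ℕ} (hr : r < D.nroots) :
    E.neg (X.io.getD r 0) = X.io.getD (D.neg r) 0 := ((St.emb_spec X.hio).2.2 r hr).2.1

theorem Emb.th'_nn (i : Fin D.rank) (t : K) :
    X.th' ((X.pres (K := K)).nn (C.sr i.val) t) = X.S'.ok.nG (E.simple i) t := by
  have hs : D.simple i < D.nroots := X.S.ok.sr_eq i.isLt ▸ X.S.ok.sr_lt i.isLt
  have hn : D.neg (D.simple i) < D.nroots := by
    rw [← X.S.ok.neg_eq hs]; exact X.S.ok.neg_lt hs
  rw [X.S.ok.sr_eq i.isLt, St.Pres.nn, map_mul, map_mul]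
  show X.th' (St.pgen (D.steinbergRels K) _ _) * X.th' (St.pgen (D.steinbergRels K) _ _) *
    X.th' (St.pgen (D.steinbergRels K) _ _) = _
  rw [X.th'_gen hs, X.th'_gen hn, ← X.io_neg hs, X.io_simple]
  rfl

theorem Emb.th'_tor (c : Fin D.rank → Kˣ) : X.th' (X.tor c) = Ok.tG E K (St.extTorus K D.rank E.rank c) := by
  have h : X.th'.comp (X.tor (K := K)) = (Ok.tG E K).comp (St.extTorus K D.rank E.rank) := by
    refine MonoidHom.ext fun c => ?_
    induction c using Pi.mulSingle_induction with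
    | one => rw [map_one, map_one]
    | mul f g hf hg => rw [map_mul, map_mul, hf, hg]
    | mulSingle i t =>
      have hi' : i.val < E.rank := lt_of_lt_of_le i.isLt X.rank_le
      have e : St.extTorus K D.rank E.rank (Pi.mulSingle i t) = Pi.mulSingle ⟨i.val, hi'⟩ t := by
        funext j
        show (if h : j.val < D.rank then Pi.mulSingle (M := fun _ => Kˣ) i t ⟨j.val, h⟩ else 1) = _
        simp only [Pi.mulSingle_apply, Fin.ext_iff]
        split_ifs <;> first | rfl | omega
      rw [MonoidHom.comp_apply, MonoidHom.comp_apply, e, Emb.tor, St.Pres.torus_single, St.Pres.hh, map_mul,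
        X.th'_nn, X.th'_nn, ← X.S'.ok.hG_simple_eq_tG ⟨i.val, hi'⟩ t]
      rfl
  exact DFunLike.congr_fun h c

include X in
theorem Emb.eq_one_of_maps (c : Fin D.rank → Kˣ) (h2 : Ok.tG D K c = 1)
    (h4 : Ok.tG E K (St.extTorus K D.rank E.rank c) = 1) : c = 1 := by
  obtain ⟨hk, hiff⟩ := St.torus_ker (F := K) X.S.ok X.ht
  obtain ⟨hz, hv⟩ := (hiff _).1 h2
  obtain ⟨hrk, -, -⟩ := St.emb_spec X.hio
  set z := c ⟨X.k, hk⟩ with hzdef
  have hlast : D.rank < E.rank := by omega
  have hsl : E.simple D.rank < E.nroots := X.S'.ok.sr_eq hlast ▸ X.S'.ok.sr_lt hlast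
  have h5 := (St.tG_eq_one_iff _).1 h4 ⟨E.simple D.rank, hsl⟩
  have h6 : z ^ ((List.range D.rank).map fun i => X.v.getD i 0 * E.cartan i (E.simple D.rank)).sum = 1 := by
    rw [St.range_sum, ← St.prod_zpow_sum, ← h5]
    rw [← (Fin.castOrderIso hrk.symm).toEquiv.prod_comp, Fin.prod_univ_castSucc]
    rw [show St.extTorus K D.rank E.rank c ((Fin.castOrderIso hrk.symm).toEquiv (Fin.last D.rank)) = 1 from
      dif_neg (by simp), _root_.one_zpow, mul_one]
    refine Finset.prod_congr rfl fun i _ => ?_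
    rw [_root_.zpow_mul, ← hv i]
    congr 1
    exact (dif_pos (c := i.val < D.rank) (t := fun h => c ⟨i.val, h⟩) (e := fun _ => 1) i.isLt).symm
  have hp := X.hp
  simp only [St.okCol, decide_eq_true_eq] at hp
  obtain ⟨q, hq⟩ := Int.dvd_of_emod_eq_zero hp
  have h7 : z = 1 := by
    rw [← _root_.zpow_one z, show (1 : ℤ) = ((List.range D.rank).map fun i => X.v.getD i 0 * E.cartan i (E.simple D.rank)).sum
      * X.p + (-q) * (X.d : ℤ) by linear_combination -hq, _root_.zpow_add, _root_.zpow_mul, h6, _root_.one_zpow, mul_comm (-q) (X.d : ℤ),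
      _root_.zpow_mul, _root_.zpow_natCast, hz, _root_.one_zpow, one_mul]
  exact funext fun i => by rw [hv i, h7, _root_.one_zpow]; rfl

theorem Emb.tor_injective : Function.Injective (X.tor (K := K)) := by
  rw [injective_iff_map_eq_one]
  intro c hc
  refine X.eq_one_of_maps c ?_ ?_
  · rw [← X.th_tor, hc, map_one]
  · rw [← X.th'_tor, hc, map_one]

theorem Emb.ker_th {g : D.SteinbergGroup K} (h : X.th g = 1) :
    g ∈ Subgroup.center (D.SteinbergGroup K) ∧ ∃ c, Ok.tG D K c = 1 ∧ X.tor c = g := by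
  refine ⟨((X.pres (K := K)).kernel X.gen_top h).2, ?_⟩
  have h1 : g ∈ (X.pres (K := K)).θ.ker := h
  rw [(X.pres (K := K)).ker_eq_map_torus X.r3 X.gen_top] at h1
  obtain ⟨c, hc, rfl⟩ := h1
  exact ⟨c, hc, rfl⟩

theorem Emb.ext {g h : D.SteinbergGroup K} (h1 : X.th g = X.th h) (h2 : X.th' g = X.th' h) : g = h := by
  obtain ⟨-, c, hc, e⟩ := X.ker_th (g := g * h⁻¹) (by rw [map_mul, map_inv, h1, mul_inv_cancel])
  have : c = 1 := X.eq_one_of_maps c hc (by rw [← X.th'_tor, e, map_mul, map_inv, h2, mul_inv_cancel])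
  rw [this, map_one] at e
  exact mul_inv_eq_one.1 e.symm

theorem Emb.range_th : (X.th (K := K)).range = D.group K := St.range_eq_group (X.pres (K := K)) X.gen_top

variable (σ : K →+* K)

/-- The map of free groups induced by a field endomorphism. -/
def freeMap (D : ChevalleyDatum) : FreeGroup (Fin D.nroots × K) →* FreeGroup (Fin D.nroots × K) :=
  FreeGroup.map fun p => (p.1, σ p.2)

theorem freeMap_stX (r : ℕ) (t : K) : freeMap σ D (D.stX r t) = D.stX r (σ t) := by
  unfold ChevalleyDatum.stX freeMap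
  split_ifs
  · simp
  · simp

theorem freeMap_stWord (l : List (ℕ × K)) :
    freeMap σ D (D.stWord l) = D.stWord (l.map fun p => (p.1, σ p.2)) := by
  rw [ChevalleyDatum.stWord, map_list_prod, List.map_map, ChevalleyDatum.stWord, List.map_map]
  exact congrArg List.prod (List.map_congr_left fun p _ => freeMap_stX σ _ _)

theorem freeMap_rels {g : FreeGroup (Fin D.nroots × K)} (hg : g ∈ D.steinbergRels K) :
    freeMap σ D g ∈ D.steinbergRels K := by
  have hH : ∀ r t, freeMap σ D (D.stH r t) = D.stH r (σ t) := fun r t => by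
    rw [ChevalleyDatum.stH, freeMap_stWord, ChevalleyDatum.stH]
    congr 1
    simp [ChevalleyDatum.hWord, ChevalleyDatum.nWord, map_inv₀]
  rcases hg with (⟨r, t, u, hr, rfl⟩ | ⟨r, s, t, u, hr, hs, h1, h2, rfl⟩) | ⟨r, t, u, hr, ht, hu, rfl⟩
  · refine Or.inl (Or.inl ⟨r, σ t, σ u, hr, ?_⟩)
    simp only [map_mul, map_inv, freeMap_stX, map_add]
  · refine Or.inl (Or.inr ⟨r, s, σ t, σ u, hr, hs, h1, h2, ?_⟩)
    simp only [map_mul, map_inv, freeMap_stX, freeMap_stWord]
    congr 3
    simp only [ChevalleyDatum.commWord, List.map_map]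
    exact List.map_congr_left fun p _ => by simp
  · refine Or.inr ⟨r, σ t, σ u, hr, (map_ne_zero σ).2 ht, (map_ne_zero σ).2 hu, ?_⟩
    simp only [map_mul, map_inv, hH]

/-- The action of a field endomorphism on Steinberg's group. -/
noncomputable def sig (D : ChevalleyDatum) : D.SteinbergGroup K →* D.SteinbergGroup K :=
  PresentedGroup.toGroup (f := fun p => PresentedGroup.of (p.1, σ p.2)) (by
    intro g hg
    have e : FreeGroup.lift (fun p : Fin D.nroots × K => (PresentedGroup.of (p.1, σ p.2) :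
        D.SteinbergGroup K)) = (PresentedGroup.mk (D.steinbergRels K)).comp (freeMap σ D) :=
      FreeGroup.ext_hom _ _ fun p => by simp [freeMap, PresentedGroup.of]
    rw [e]
    exact St.mk_eq_one_of_mem (freeMap_rels σ hg))

theorem sig_gen {r : ℕ} (hr : r < D.nroots) (t : K) :
    sig σ D (St.pgen (D.steinbergRels K) r t) = St.pgen (D.steinbergRels K) r (σ t) := by
  rw [St.pgen, St.pgen, ChevalleyDatum.stX, dif_pos hr, ChevalleyDatum.stX, dif_pos hr]
  exact PresentedGroup.toGroup.of _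

theorem Emb.th_sig (g : D.SteinbergGroup K) : X.th (sig σ D g) = phiG σ D (X.th g) := by
  refine DFunLike.congr_fun (f := X.th.comp (sig σ D)) (g := (phiG σ D).comp X.th) ?_ g
  refine PresentedGroup.ext fun p => ?_
  have e : PresentedGroup.of (rels := D.steinbergRels K) p = St.pgen (D.steinbergRels K) p.1.val p.2 := by
    rw [St.pgen, ChevalleyDatum.stX, dif_pos p.1.isLt]; rfl
  rw [MonoidHom.comp_apply, MonoidHom.comp_apply, e, sig_gen σ p.1.isLt, X.th_gen p.1.isLt, X.th_gen p.1.isLt,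
    phiG_xG σ X.S]

theorem Emb.th'_sig (g : D.SteinbergGroup K) : X.th' (sig σ D g) = phiG σ E (X.th' g) := by
  refine DFunLike.congr_fun (f := X.th'.comp (sig σ D)) (g := (phiG σ E).comp X.th') ?_ g
  refine PresentedGroup.ext fun p => ?_
  have e : PresentedGroup.of (rels := D.steinbergRels K) p = St.pgen (D.steinbergRels K) p.1.val p.2 := by
    rw [St.pgen, ChevalleyDatum.stX, dif_pos p.1.isLt]; rfl
  rw [MonoidHom.comp_apply, MonoidHom.comp_apply, e, sig_gen σ p.1.isLt, X.th'_gen p.1.isLt, X.th'_gen p.1.isLt,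
    phiG_xG σ X.S']

theorem phiG_tG' {D : ChevalleyDatum} (σ : K →+* K) {q : ℕ} (hσ : ∀ z, σ z = z ^ q) (c : Fin D.rank → Kˣ) :
    phiG σ D (Ok.tG D K c) = Ok.tG D K (c ^ q) := by
  refine Units.ext ?_
  show Matrix.map (Ok.tG D K c : Matrix D.Idx D.Idx K) σ = _
  rw [Ok.tG_val, Ok.tG_val, Matrix.diagonal_map (map_zero σ)]
  congr 1
  funext x
  rcases x with a | s
  · simp
  · simp only [Function.comp_apply, Sum.elim_inr, hσ, ← Units.val_pow_eq_pow_val, ← Finset.prod_pow]
    congr 1
    refine Finset.prod_congr rfl fun i _ => ?_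
    rw [Pi.pow_apply, ← zpow_natCast, ← zpow_natCast (c i), ← _root_.zpow_mul, ← _root_.zpow_mul, mul_comm]

theorem Emb.sig_tor {q : ℕ} (hσ : ∀ z, σ z = z ^ q) (c : Fin D.rank → Kˣ) :
    sig σ D (X.tor c) = X.tor (c ^ q) := by
  refine X.ext ?_ ?_
  · rw [X.th_sig, X.th_tor, X.th_tor, phiG_tG' σ hσ]
  · rw [X.th'_sig, X.th'_tor, X.th'_tor, phiG_tG' σ hσ]
    simp only [map_pow]

/-- Exponent vectors extended by zero. -/
def extZ (m n : ℕ) (z : Fin m → ℤ) : Fin n → ℤ := fun j => if h : j.val < m then z ⟨j.val, h⟩ else 0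

theorem extTorus_zc (ζ : Kˣ) (z : Fin D.rank → ℤ) :
    St.extTorus K D.rank E.rank (zc ζ z) = zc ζ (extZ D.rank E.rank z) := by
  funext j
  show (if h : j.val < D.rank then zc ζ z ⟨j.val, h⟩ else 1) = ζ ^ (extZ D.rank E.rank z j)
  unfold extZ
  split_ifs <;> simp [zc]

include X in
theorem Emb.extZ_Rm (i : Fin D.rank) (z : Fin D.rank → ℤ) :
    Rm E ⟨i.val, lt_of_lt_of_le i.isLt X.rank_le⟩ *ᵥ extZ D.rank E.rank z = extZ D.rank E.rank (Rm D i *ᵥ z) := by
  have h := X.hcart
  simp only [okCartAgree, Bool.and_eq_true, List.all_eq_true, List.mem_range, decide_eq_true_eq] at h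
  have hchi : chiZ E (E.simple i) (extZ D.rank E.rank z) = chiZ D (D.simple i) z := by
    unfold chiZ
    refine (Finset.sum_of_injOn (Fin.castLE X.rank_le) (fun a _ b _ e => Fin.castLE_injective _ e)
      (fun _ _ => Finset.mem_univ _) (fun j _ hj => ?_) fun j _ => ?_).symm
    · have : ¬ j.val < D.rank := fun hlt => hj ⟨⟨j.val, hlt⟩, Finset.mem_coe.2 (Finset.mem_univ _), Fin.ext rfl⟩
      simp [extZ, this]
    · simp [extZ, h.2 i i.isLt j j.isLt]
  rw [Rm_mulVec, Rm_mulVec, hchi]
  funext j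
  by_cases hj : j.val < D.rank
  · simp only [Pi.sub_apply, extZ, dif_pos hj, Pi.single_apply, Fin.ext_iff]
  · have hne : j.val ≠ i.val := fun e => hj (e ▸ i.isLt)
    simp [extZ, hj, Fin.ext_iff, hne, Pi.single_apply]

theorem Emb.nLb_conj (ζ : Kˣ) : ∀ (L : List (Fin D.rank)) (z : Fin D.rank → ℤ),
    (X.pres (K := K)).nLb L * X.tor (zc ζ z) * ((X.pres (K := K)).nLb L)⁻¹ = X.tor (zc ζ (matL D L *ᵥ z))
  | [], z => by simp [St.Pres.nLb, matL]
  | i :: L, z => by
    have e1 : (X.pres (K := K)).nLb (i :: L) = (X.pres (K := K)).nn (C.sr i.val) 1 * (X.pres (K := K)).nLb L := by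
      simp [St.Pres.nLb]
    have e2 : matL D (i :: L) = Rm D i * matL D L := by simp [matL]
    rw [e1, _root_.mul_inv_rev, show ∀ a b t : D.SteinbergGroup K, a * b * t * (b⁻¹ * a⁻¹) = a * (b * t * b⁻¹) * a⁻¹ from
      fun a b t => by group, Emb.nLb_conj ζ L z, e2, ← Matrix.mulVec_mulVec]
    refine X.ext ?_ ?_
    · rw [map_mul, map_mul, map_inv, X.th_tor, X.th_tor]
      rw [show X.th ((X.pres (K := K)).nn (C.sr i.val) 1) = X.S.ok.nG (C.sr i.val) 1 from
        (X.pres (K := K)).θ_nn (X.S.ok.sr_lt i.isLt) 1, X.S.ok.sr_eq i.isLt]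
      exact nG_conj_te X.S ζ i _
    · rw [map_mul, map_mul, map_inv, X.th'_tor, X.th'_tor, X.th'_nn, extTorus_zc, extTorus_zc, ← X.extZ_Rm]
      exact nG_conj_te X.S' ζ ⟨i.val, lt_of_lt_of_le i.isLt X.rank_le⟩ _

theorem Emb.th_nLb (L : List (Fin D.rank)) : X.th ((X.pres (K := K)).nLb L) = X.S.nL K L := by
  rw [St.Pres.nLb, map_list_prod, List.map_map, Struct.nL]
  refine congrArg List.prod (List.map_congr_left fun i _ => ?_)
  rw [Function.comp_apply, show X.th ((X.pres (K := K)).nn (C.sr i.val) 1) = X.S.ok.nG (C.sr i.val) 1 from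
    (X.pres (K := K)).θ_nn (X.S.ok.sr_lt i.isLt) 1, X.S.ok.sr_eq i.isLt]

end Cfsg.Lib.CyclicTorus
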