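import Cfsg.Agent.Chev.CyclicTorus.Inst
import Cfsg.Agent.Chev.CyclicTorus.E6.Elem
import Cfsg.Agent.Chev.CyclicTorus.E6.Lift

/-! A self-centralizing cyclic subgroup of order `Φ₁₂(q)Φ₃(q)/(d, q - 1)` in the adjoint group of type `E6`. -/

set_option autoImplicit false
set_option linter.unusedSectionVars false
set_option linter.style.haveILetI false
set_option maxHeartbeats 2000000

open Cfsg.Lie

namespace Cfsg.Lib.CyclicTorus

open Cfsg.Lib.Chev Matrix

variable {D E : ChevalleyDatum} {C C' : Cert}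

section FiniteField

variable {K : Type*} [Field K] [Fintype K]

theorem card_diag_mul (S : Struct D C) {d k : ℕ} {v w : List ℤ} {B : List (List ℤ)}
    (ht : St.okTorus D d k v w B = true) :
    (Fintype.card K - 1).gcd d * Nat.card ↥(D.diagonalSubgroup K) = (Fintype.card K - 1) ^ D.rank := by
  classical
  have h := (Ok.tG D K).ker.index_mul_card
  rw [Subgroup.index_ker, St.card_torus_ker (F := K) S.ok ht, Nat.card_fun, Nat.card_units,
    Nat.card_eq_fintype_card (α := K), Nat.card_fin] at h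
  rw [S.ok.diagonalSubgroup_eq, mul_comm]
  exact h

theorem sylow_conj_diag' (S : Struct D C) (hN : okNeg D = true) {Ls : List Lev} {ds : List ℕ}
    (hP : okPoincare C Ls ds = true) (hlen : ds.length = D.rank) {g₀ : ℕ}
    (hdiag : g₀ * Nat.card ↥(D.diagonalSubgroup K) = (Fintype.card K - 1) ^ D.rank) (hg₀ : 0 < g₀)
    {r : ℕ} [Fact r.Prime] (hrg : ¬ r ∣ g₀)
    (hr : r ∣ Fintype.card K - 1) (hds : ∀ e ∈ ds, ¬ r ∣ e) {x : GL D.Idx K} (hx : x ∈ D.group K)
    (hxr : orderOf x = r) : ∃ g ∈ D.group K, g⁻¹ * x * g ∈ D.diagonalSubgroup K := by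
  classical
  have hQ1 : 1 ≤ Fintype.card K := Fintype.card_pos
  have hcard := S.order_formula hN hP (d := g₀) rfl hdiag
  obtain ⟨M, hM, hrM⟩ := prod_pow_sub_one hr hQ1 ds hds
  rw [hM, hlen, ← hdiag] at hcard
  have hrQ : ¬ r ∣ Fintype.card K := fun h => by
    have h1 := Nat.dvd_sub h hr
    rw [Nat.sub_sub_self hQ1] at h1
    exact (Fact.out : r.Prime).not_dvd_one h1
  have hcard' : Nat.card ↥(D.group K) =
      Fintype.card K ^ (D.nroots / 2) * (Nat.card ↥(D.diagonalSubgroup K) * M) :=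
    Nat.eq_of_mul_eq_mul_left hg₀ (hcard.trans (by ring))
  set G := D.group K
  let T : Subgroup ↥G := (D.diagonalSubgroup K).subgroupOf G
  have hT : Nat.card ↥T = Nat.card ↥(D.diagonalSubgroup K) :=
    Nat.card_congr (Subgroup.subgroupOfEquivOfLe S.diag_le_group).toEquiv
  have hfac : (Nat.card ↥G).factorization r = (Nat.card ↥T).factorization r := by
    rw [hcard', hT, Nat.factorization_mul (pow_ne_zero _ Fintype.card_pos.ne') (Nat.mul_ne_zero Nat.card_pos.ne'
        (by rintro rfl; exact hrM (dvd_zero r))),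
      Nat.factorization_mul Nat.card_pos.ne' (by rintro rfl; exact hrM (dvd_zero r))]
    simp [Nat.factorization_eq_zero_of_not_dvd hrM, Nat.factorization_eq_zero_of_not_dvd hrQ]
  let P₀ : Sylow r ↥T := default
  let P : Sylow r ↥G := Sylow.ofCard ((P₀ : Subgroup ↥T).map T.subtype) (by
    rw [Subgroup.card_subtype, P₀.card_eq_multiplicity, hfac])
  have hp : IsPGroup r ↥(Subgroup.zpowers (⟨x, hx⟩ : ↥G)) :=
    IsPGroup.of_card (n := 1) (by rw [Nat.card_zpowers, ← Subgroup.orderOf_coe, hxr, pow_one])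
  obtain ⟨Q, hQ⟩ := hp.exists_le_sylow
  obtain ⟨k, hk⟩ := MulAction.exists_smul_eq ↥G Q P
  refine ⟨((k⁻¹ : ↥G) : GL D.Idx K), (k⁻¹).2, ?_⟩
  have hm : k * ⟨x, hx⟩ * k⁻¹ ∈ (P : Subgroup ↥G) := by
    rw [← hk, Sylow.coe_subgroup_smul]
    exact Subgroup.smul_mem_pointwise_smul _ _ _ (hQ (Subgroup.mem_zpowers _))
  obtain ⟨z, -, hz⟩ := hm
  have h1 := z.2
  rw [Subgroup.mem_subgroupOf] at h1
  rw [show (z : ↥G) = k * ⟨x, hx⟩ * k⁻¹ from hz] at h1
  simpa using h1

end FiniteField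

section Rational

variable {F K : Type*} [Field F] [Field K] [Algebra F K]

theorem iota_tG (c : Fin D.rank → Fˣ) :
    iota (K := K) D (Ok.tG D F c) = Ok.tG D K (fun i => Units.map (algebraMap F K : F →* K) (c i)) := by
  refine Units.ext ?_
  show Matrix.map (Ok.tG D F c : Matrix D.Idx D.Idx F) (algebraMap F K) = _
  rw [Ok.tG_val, Ok.tG_val, Matrix.diagonal_map (map_zero _)]
  congr 1
  funext x
  rcases x with a | s
  · simp
  · simp [Sum.elim_inr, Units.coe_prod, map_prod, Units.val_zpow_eq_zpow_val, map_zpow₀]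

variable (X : Emb D C E C') (σ : K →+* K)

theorem exists_fixed_lift (hσF : ∀ a : F, σ (algebraMap F K a) = algebraMap F K a) {g : GL D.Idx F}
    (hg : g ∈ D.group F) : ∃ g' : D.SteinbergGroup K, sig σ D g' = g' ∧ X.th g' = iota (K := K) D g := by
  have hle : D.group F ≤ (((sig σ D).eqLocus (MonoidHom.id _)).map X.th).comap (iota (K := K) D) := by
    refine (Subgroup.closure_le _).2 ?_
    rintro x ⟨r, t, hx⟩
    have hx' : (x : Matrix D.Idx D.Idx F) = D.x F r.val t := by rw [hx]; simp [ChevalleyDatum.x, r.isLt]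
    have e : iota (K := K) D x = X.S.ok.xG r.val (algebraMap F K t) := Units.ext (by
      rw [X.S.ok.val_xG, ← Ok.map_x D (algebraMap F K) r.val t, ← hx']; rfl)
    refine ⟨St.pgen (D.steinbergRels K) r.val (algebraMap F K t), ?_, ?_⟩
    · show sig σ D _ = _
      rw [sig_gen σ r.isLt, hσF]; rfl
    · rw [X.th_gen r.isLt, e]
  obtain ⟨g', h1, h2⟩ := hle hg
  exact ⟨g', h1, h2⟩

theorem th_fixed_rational {q : ℕ} (hσ : ∀ z, σ z = z ^ q) (hσF : ∀ a : F, σ (algebraMap F K a) = algebraMap F K a)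
    (hfix : ∀ z : K, σ z = z → ∃ u : F, algebraMap F K u = z) {g' : D.SteinbergGroup K}
    (hg' : sig σ D g' = g') : ∃ g ∈ D.group F, iota (K := K) D g = X.th g' := by
  have hmem : X.th g' ∈ D.group K := by rw [← X.range_th]; exact ⟨g', rfl⟩
  have hf : phiG σ D (X.th g') = X.th g' := by rw [← X.th_sig, hg']
  obtain ⟨l, hl, d, hd, hdf, e⟩ := fixed_decomp σ X.S X.hN hmem hf
  have h1 : ratGroup D σ ≤ (D.group F).map (iota (K := K) D) := by
    refine (Subgroup.closure_le _).2 ?_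
    rintro x ⟨s, t, ht, hx⟩
    obtain ⟨u, rfl⟩ := hfix t ht
    refine ⟨X.S.ok.xG s u, X.S.ok.xG_mem_group s u, Units.ext ?_⟩
    rw [hx, ← Ok.map_x D (algebraMap F K) s u, ← X.S.ok.val_xG s u]
    rfl
  obtain ⟨g₁, hg₁, rfl⟩ := h1 hl
  obtain ⟨l', hl', el⟩ := exists_fixed_lift X σ hσF hg₁
  rw [X.S.ok.diagonalSubgroup_eq] at hd
  obtain ⟨c₀, rfl⟩ := hd
  obtain ⟨-, c₁, hc₁, ec⟩ := X.ker_th (g := l'⁻¹ * g' * (X.tor c₀)⁻¹) (by
    rw [map_mul, map_mul, map_inv, map_inv, X.th_tor, el, e, inv_mul_cancel_left, mul_inv_cancel])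
  have hd' : l'⁻¹ * g' = X.tor (c₁ * c₀) := by rw [map_mul, ec, inv_mul_cancel_right]
  have hq : (c₁ * c₀) ^ q = c₁ * c₀ := X.tor_injective (by
    rw [← X.sig_tor σ hσ, ← hd', map_mul, map_inv, hl', hg'])
  have hc : ∀ i, σ (((c₁ * c₀) i : Kˣ) : K) = (c₁ * c₀) i := fun i => by
    rw [hσ, ← Units.val_pow_eq_pow_val]
    exact congrArg Units.val (congrFun hq i)
  choose u hu using fun i => hfix _ (hc i)
  have hu0 : ∀ i, u i ≠ 0 := fun i h => ((c₁ * c₀) i).ne_zero (by rw [← hu i, h, map_zero])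
  let cF : Fin D.rank → Fˣ := fun i => Units.mk0 (u i) (hu0 i)
  refine ⟨g₁ * Ok.tG D F cF, mul_mem hg₁ (X.S.diag_le_group (by rw [X.S.ok.diagonalSubgroup_eq]; exact ⟨_, rfl⟩)), ?_⟩
  rw [map_mul, iota_tG, show (fun i => Units.map (algebraMap F K : F →* K) (cF i)) = c₁ * c₀ from
    funext fun i => Units.ext (hu i), e, map_mul, hc₁, one_mul]

end Rational

theorem eval_cyclotomic_three' (x : ℤ) : (Polynomial.cyclotomic 3 ℤ).eval x = x ^ 2 + x + 1 := eval_three x

theorem three_mod_two : ∀ t : ZMod 2, t ^ 2 + t + 1 ≠ 0 := by decide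

theorem three_mod_three : ∀ t : ZMod 3, t ^ 2 + t + 1 = 0 → t = 1 := by decide

theorem twelve_mod_two : ∀ t : ZMod 2, t ^ 4 - t ^ 2 + 1 ≠ 0 := by decide

theorem twelve_mod_three : ∀ t : ZMod 3, t ^ 4 - t ^ 2 + 1 ≠ 0 := by decide

theorem exists_selfcent_e6 (X : Emb D C E C') {a : Fin D.rank → Fin D.rank → ℤ} (hU : Uni D a)
    (hF : E6Facts D) (hd3 : X.d = 3) {Ls : List Lev} {ds : List ℕ} (hP : okPoincare C Ls ds = true)
    (hlen : ds.length = D.rank) (hdmem : 12 ∈ ds) (F : Type*) [Field F] [Fintype F] {r : ℕ} [Fact r.Prime]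
    (hprim : IsPrimitiveRoot ((Fintype.card F : ℤ) : ZMod r) 12) (hW : ¬ r ∣ Nat.card ↥X.S.WG)
    (hds : ∀ e ∈ ds, ¬ r ∣ e) (hr3 : r ≠ 3) :
    ∃ H : Subgroup ↥(D.group F), IsCyclic ↥H ∧
      (Nat.card ↥H : ℤ) * ((Fintype.card F - 1).gcd 3 : ℕ) =
        (Polynomial.cyclotomic 12 ℤ).eval (Fintype.card F : ℤ) * (Polynomial.cyclotomic 3 ℤ).eval (Fintype.card F : ℤ) ∧
      Subgroup.centralizer (H : Set ↥(D.group F)) = H := by
  classical
  let S := X.S
  have hN := X.hN
  obtain ⟨p, hp⟩ := CharP.exists F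
  haveI : Fact p.Prime := ⟨CharP.char_is_prime F p⟩
  haveI : NeZero 12 := ⟨by norm_num⟩
  let K := FiniteField.Extension F p 12
  haveI : Fintype K := Fintype.ofFinite K
  set q := Fintype.card F with hq
  have hq2 : 1 < q := Fintype.one_lt_card
  have hK : Fintype.card K = q ^ 12 := by
    rw [← Nat.card_eq_fintype_card, FiniteField.natCard_extension, Nat.card_eq_fintype_card]
  set N := Fintype.card K - 1 with hNdef
  have hN1 : 0 < N := by have := Fintype.one_lt_card (α := K); omega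
  haveI : NeZero N := ⟨hN1.ne'⟩
  have hqd : (q : ZMod r) ^ 12 = 1 := by simpa using hprim.pow_eq_one
  have hrN : r ∣ N := by
    rw [← ZMod.natCast_eq_zero_iff, hNdef, hK, Nat.cast_sub (Nat.one_le_pow _ _ (by omega))]
    simp [hqd]
  have hr3' : ¬ r ∣ 3 := fun h => hr3 ((Nat.prime_dvd_prime_iff_eq Fact.out Nat.prime_three).1 h)
  have hgcd : ∀ Q : ℕ, ¬ r ∣ Q.gcd 3 := fun Q h => hr3' (h.trans (Nat.gcd_dvd_right _ _))
  have hgpos : ∀ Q : ℕ, 0 < Q.gcd 3 := fun Q => Nat.gcd_pos_of_pos_right _ (by norm_num)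
  have hdiagK : N.gcd 3 * Nat.card ↥(D.diagonalSubgroup K) = N ^ D.rank := by
    have := card_diag_mul (K := K) S X.ht
    rwa [hd3] at this
  have hdiagF : (q - 1).gcd 3 * Nat.card ↥(D.diagonalSubgroup F) = (q - 1) ^ D.rank := by
    have := card_diag_mul (K := F) S X.ht
    rwa [hd3] at this
  -- the kernel of the torus has exponent three
  have hexp : ∀ c : Fin D.rank → Kˣ, Ok.tG D K c = 1 → c ^ 3 = 1 := fun c hc => by
    obtain ⟨hk, hiff⟩ := St.torus_ker (F := K) S.ok X.ht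
    obtain ⟨hz, hv⟩ := (hiff c).1 hc
    funext i
    rw [Pi.pow_apply, hv i, ← zpow_natCast, ← _root_.zpow_mul, mul_comm, _root_.zpow_mul, zpow_natCast, ← hd3, hz,
      _root_.one_zpow]
    rfl
  -- an element of order `r`
  have hrG : r ∣ Nat.card ↥(D.group F) := by
    have hcard := S.order_formula (F := F) hN hP (d := (q - 1).gcd 3) rfl hdiagF
    refine ((Fact.out : r.Prime).dvd_mul.1 ?_).resolve_left (hgcd (q - 1))
    rw [hcard]
    refine Dvd.dvd.mul_left ?_ _
    refine dvd_trans ?_ (List.dvd_prod (List.mem_map.2 ⟨12, hdmem, rfl⟩))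
    rwa [hNdef, hK] at hrN
  obtain ⟨x₀, hx₀⟩ := exists_prime_orderOf_dvd_card' r hrG
  let σ : K →+* K := (FiniteField.frobeniusAlgHom F K).toRingHom
  have hσ : ∀ z, σ z = z ^ q := fun z => by simp [σ, hq]
  have hσF : ∀ a : F, σ (algebraMap F K a) = algebraMap F K a := fun a => by
    rw [hσ, ← map_pow, hq, FiniteField.pow_card]
  have hfix : ∀ z : K, σ z = z → ∃ u : F, algebraMap F K u = z := by
    intro z hz
    by_contra hno
    push Not at hno
    let P : Polynomial K := Polynomial.X ^ q - Polynomial.X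
    have hsub : insert z (Finset.univ.image (algebraMap F K)) ⊆ P.roots.toFinset := by
      intro u hu
      rw [Multiset.mem_toFinset, Polynomial.mem_roots (FiniteField.X_pow_card_sub_X_ne_zero K hq2),
        Polynomial.IsRoot.def]
      rcases Finset.mem_insert.1 hu with rfl | hu
      · simp [← hσ, hz]
      · obtain ⟨a, -, rfl⟩ := Finset.mem_image.1 hu
        simp [← map_pow, hq, FiniteField.pow_card]
    have h1 := (Finset.card_le_card hsub).trans (P.roots.toFinset_card_le.trans (Polynomial.card_roots' P))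
    rw [Finset.card_insert_of_notMem (by
        rw [Finset.mem_image]; rintro ⟨a, -, e⟩; exact hno a e),
      Finset.card_image_of_injective _ (algebraMap F K).injective, Finset.card_univ,
      FiniteField.X_pow_card_sub_X_natDegree_eq K hq2] at h1
    omega
  set x := iota (K := K) D (x₀ : GL D.Idx F) with hxdef
  have hxG : x ∈ D.group K := iota_group S x₀.2
  have hxr : orderOf x = r := by
    rw [hxdef, orderOf_injective _ iota_injective, Subgroup.orderOf_coe, hx₀]
  have hxfix : ∀ g : GL D.Idx F, phiG σ D (iota (K := K) D g) = iota (K := K) D g := fun g => by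
    rw [phiG_eq_self]
    intro i j
    exact hσF _
  obtain ⟨g, hg, htd⟩ := sylow_conj_diag' S hN hP hlen hdiagK (hgpos N) (hgcd N) hrN hds hxG hxr
  -- exponents
  obtain ⟨ζ, hgen⟩ := IsCyclic.exists_generator (α := Kˣ)
  have hζ : orderOf ζ = N := by
    rw [orderOf_eq_card_of_forall_mem_zpowers hgen, Nat.card_units, Nat.card_eq_fintype_card]
  rw [S.ok.diagonalSubgroup_eq] at htd
  obtain ⟨c, hc⟩ := htd
  obtain ⟨Y₀, rfl⟩ := exists_exponents hgen c
  change te D ζ Y₀ = g⁻¹ * x * g at hc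
  obtain ⟨b, hb⟩ : ∃ b : ℤ, (r : ℤ) ∣ 3 * b - 1 := by
    have hcop : IsCoprime (3 : ℤ) r :=
      Nat.isCoprime_iff_coprime.2 ((Nat.coprime_primes Nat.prime_three Fact.out).2 (Ne.symm hr3))
    obtain ⟨u, v, huv⟩ := hcop
    exact ⟨u, ⟨-v, by linear_combination huv⟩⟩
  set Y : Fin D.rank → ℤ := (3 * b) • Y₀ with hYdef
  have hteYr : te D ζ Y₀ ^ r = 1 := by
    rw [hc, show (g⁻¹ * x * g) ^ r = g⁻¹ * x ^ r * g by
      rw [show g⁻¹ * x * g = g⁻¹ * x * g⁻¹⁻¹ by rw [inv_inv], conj_pow, inv_inv],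
      ← hxr, pow_orderOf_eq_one, mul_one, inv_mul_cancel]
  have hteY : te D ζ Y = g⁻¹ * x * g := by
    rw [← hc]
    have e : te D ζ Y = te D ζ Y₀ ^ (3 * b) := by
      rw [te, te, ← map_zpow]
      congr 1
      funext i
      simp only [zc, hYdef, Pi.smul_apply, smul_eq_mul, Pi.pow_apply]
      rw [← _root_.zpow_mul, mul_comm]
    obtain ⟨m, hm⟩ := hb
    rw [e, show (3 * b : ℤ) = (r : ℤ) * m + 1 by linear_combination hm, _root_.zpow_add, _root_.zpow_mul,
      zpow_natCast, hteYr, _root_.one_zpow, one_mul, _root_.zpow_one]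
  have hxY : x = g * te D ζ Y * g⁻¹ := by rw [hteY]; group
  obtain ⟨k, hk⟩ := hrN
  have hk0 : k ≠ 0 := fun h => hN1.ne' (by rw [hk, h, mul_zero])
  have hYdvd : ∀ i, (k : ℤ) ∣ Y i := by
    intro i
    rw [te, ← map_pow] at hteYr
    have h2 := congrFun (hexp _ hteYr) i
    simp only [Pi.pow_apply, zc, Pi.one_apply] at h2
    rw [← pow_mul, ← zpow_natCast, ← _root_.zpow_mul, ← orderOf_dvd_iff_zpow_eq_one, hζ, hk] at h2
    push_cast at h2
    rw [show Y₀ i * ((r : ℤ) * 3) = (r : ℤ) * (3 * Y₀ i) by ring] at h2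
    have h3 := (mul_dvd_mul_iff_left (Int.natCast_ne_zero.2 (Fact.out : r.Prime).ne_zero)).1 h2
    rw [hYdef, Pi.smul_apply, smul_eq_mul, show 3 * b * Y₀ i = b * (3 * Y₀ i) by ring]
    exact h3.mul_left b
  choose y hy using hYdvd
  have hYk : Y = (k : ℤ) • y := funext hy
  have hteq : ∀ u v : Fin D.rank → ℤ, te D ζ ((k : ℤ) • u) = te D ζ ((k : ℤ) • v) →
      ∀ i, (u i : ZMod r) = (v i : ZMod r) := by
    intro u v h i
    rw [te, te, ← mul_inv_eq_one, ← map_inv, ← map_mul] at h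
    have h2 := congrFun (hexp _ h) i
    simp only [Pi.pow_apply, Pi.mul_apply, Pi.inv_apply, zc, Pi.one_apply, Pi.smul_apply, smul_eq_mul] at h2
    rw [← _root_.zpow_neg, ← _root_.zpow_add, ← zpow_natCast, ← _root_.zpow_mul, ← orderOf_dvd_iff_zpow_eq_one, hζ,
      hk] at h2
    push_cast at h2
    rw [show ((k : ℤ) * u i + -((k : ℤ) * v i)) * 3 = (k : ℤ) * (3 * (u i - v i)) by ring, mul_comm (r : ℤ)] at h2
    have h3 := (mul_dvd_mul_iff_left (Int.natCast_ne_zero.2 hk0)).1 h2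
    rw [ZMod.intCast_eq_intCast_iff_dvd_sub, show v i - u i = -(u i - v i) by ring]
    refine Dvd.dvd.neg_right (IsCoprime.dvd_of_dvd_mul_left ?_ h3)
    exact (Nat.isCoprime_iff_coprime (m := r) (n := 3)).2 ((Fact.out : r.Prime).coprime_iff_not_dvd.2 hr3')
  have hy0 : ∃ i, (y i : ZMod r) ≠ 0 := by
    by_contra hno
    push Not at hno
    have h1 : te D ζ Y = te D ζ (0 : Fin D.rank → ℤ) := te_congr ζ hζ fun i => by
      rw [hy i, Pi.zero_apply, Int.cast_zero, ZMod.intCast_zmod_eq_zero_iff_dvd, hk]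
      push_cast
      rw [mul_comm (r : ℤ)]
      exact mul_dvd_mul_left _ ((ZMod.intCast_zmod_eq_zero_iff_dvd _ _).1 (hno i))
    have h0 : te D ζ (0 : Fin D.rank → ℤ) = (1 : GL D.Idx K) := by
      rw [te, show zc ζ (0 : Fin D.rank → ℤ) = 1 from funext fun i => _root_.zpow_zero ζ, map_one]
    have h2 : x = 1 := by rw [hxY, h1, h0, mul_one, mul_inv_cancel]
    rw [h2, orderOf_one] at hxr
    exact (Fact.out : r.Prime).one_lt.ne hxr
  -- the twisting element
  set n := g⁻¹ * phiG σ D g with hn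
  have hnG : n ∈ D.group K := mul_mem (inv_mem hg) (phiG_group σ S hg)
  have hte_pow : ∀ z : Fin D.rank → ℤ, phiG σ D (te D ζ z) = te D ζ ((q : ℤ) • z) := by
    intro z
    rw [te, te, phiG_tG σ hσ]
    congr 1
    funext i
    simp only [Pi.pow_apply, zc, Pi.smul_apply, smul_eq_mul]
    rw [← zpow_natCast, ← _root_.zpow_mul, mul_comm]
  have hnY : n * te D ζ ((q : ℤ) • Y) * n⁻¹ = te D ζ Y := by
    have h1 := hxfix (x₀ : GL D.Idx F)
    rw [← hxdef, hxY, map_mul, map_mul, map_inv, hte_pow,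
      show phiG σ D g * te D ζ ((q : ℤ) • Y) * (phiG σ D g)⁻¹ = g * (n * te D ζ ((q : ℤ) • Y) * n⁻¹) * g⁻¹ by
        rw [hn]; group] at h1
    exact mul_left_cancel (mul_right_cancel h1)
  obtain ⟨L, v, d₁, u, hv, hd₁, hu, en, eL, ecu, ecv⟩ := conj_te S hN ζ hnG hnY
  let w' : ↥S.WG := ⟨S.wpL L, S.wpL_mem_WG L⟩
  let w : ↥S.WG := w'⁻¹
  have hw' : matW S hU w' = matL D L := matW_eq S hU w' rfl
  have heig0 : ∀ i, ((matL D L *ᵥ ((q : ℤ) • y)) i : ZMod r) = (y i : ZMod r) := by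
    refine hteq _ _ ?_
    rw [← Matrix.mulVec_smul, smul_comm, ← hYk]
    exact eL
  have hinvmul : ∀ z : Fin D.rank → ℤ, matW S hU w *ᵥ (matL D L *ᵥ z) = z := fun z => by
    rw [Matrix.mulVec_mulVec, ← hw', ← map_mul, inv_mul_cancel, map_one, Matrix.one_mulVec]
  have hmulinv : ∀ z : Fin D.rank → ℤ, matL D L *ᵥ (matW S hU w *ᵥ z) = z := fun z => by
    rw [Matrix.mulVec_mulVec, ← hw', ← map_mul, mul_inv_cancel, map_one, Matrix.one_mulVec]
  have heig : ∀ i, ((matW S hU w *ᵥ y) i : ZMod r) = ((q : ℤ) : ZMod r) * (y i : ZMod r) := by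
    intro i
    have h1 := congrFun (red_mulVec r (matW S hU w) (matL D L *ᵥ ((q : ℤ) • y))) i
    rw [hinvmul, funext heig0, congrFun (red_mulVec r (matW S hU w) y) i] at h1
    rw [h1]
    simp
  obtain ⟨hchar, hreg⟩ := e6_element S hU hF hW hprim w hy0 heig
  have hregY : ∀ s : Fin D.nroots, ζ ^ chiZ D s Y ≠ 1 := by
    intro s h
    rw [← orderOf_dvd_iff_zpow_eq_one, hζ, hk, hYk] at h
    have e : chiZ D s ((k : ℤ) • y) = (k : ℤ) * chiZ D s y := by
      simp [chiZ, Finset.mul_sum, mul_left_comm]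
    rw [e] at h
    push_cast at h
    rw [mul_comm (r : ℤ)] at h
    exact hreg s ((ZMod.intCast_zmod_eq_zero_iff_dvd _ _).2
      ((mul_dvd_mul_iff_left (Int.natCast_ne_zero.2 hk0)).1 h))
  have hregqY : ∀ s : Fin D.nroots, ζ ^ chiZ D s ((q : ℤ) • Y) ≠ 1 := by
    intro s h
    rw [show chiZ D s ((q : ℤ) • Y) = (q : ℤ) * chiZ D s Y by simp [chiZ, Finset.mul_sum, mul_left_comm]] at h
    rw [← orderOf_dvd_iff_zpow_eq_one, hζ] at h
    refine hregY s ?_
    rw [← orderOf_dvd_iff_zpow_eq_one, hζ]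
    refine (Int.isCoprime_iff_gcd_eq_one.2 ?_).dvd_of_dvd_mul_left h
    rw [Int.gcd_natCast_natCast, ← Nat.coprime_iff_gcd_eq_one, hNdef, hK]
    refine Nat.Coprime.symm (Nat.Coprime.coprime_dvd_left (dvd_pow_self q (n := 12) (by norm_num)) ?_)
    exact (Nat.coprime_self_sub_right (Nat.one_le_pow _ _ (by omega))).2 (Nat.coprime_one_right _)
  rw [eq_one_of_commute_te S ζ Y hregY hv ecv, eq_one_of_commute_te S ζ _ hregqY (S.UPsi_le _ hu) ecu,
    one_mul, mul_one] at en
  -- centralizer of `x` in the big group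
  have hcent : ∀ z ∈ D.group K, z * x = x * z → ∃ e : Fin D.rank → ℤ, z = g * te D ζ e * g⁻¹ := by
    intro z hz hzx
    have hm : g⁻¹ * z * g * te D ζ Y * (g⁻¹ * z * g)⁻¹ = te D ζ Y := by
      rw [hteY, show g⁻¹ * z * g * (g⁻¹ * x * g) * (g⁻¹ * z * g)⁻¹ = g⁻¹ * (z * x) * z⁻¹ * g by group, hzx]
      group
    obtain ⟨L₁, v', d', u', hv', hd', hu', ez, eL', ecu', ecv'⟩ :=
      conj_te S hN ζ (mul_mem (mul_mem (inv_mem hg) hz) hg) hm
    rw [eq_one_of_commute_te S ζ Y hregY hv' ecv', one_mul,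
      eq_one_of_commute_te S ζ Y hregY (S.UPsi_le _ hu') ecu', mul_one] at ez
    have hfixw : ∀ i, ((matW S hU ⟨S.wpL L₁, S.wpL_mem_WG L₁⟩ *ᵥ y) i : ZMod r) = y i := by
      rw [matW_eq S hU (⟨S.wpL L₁, S.wpL_mem_WG L₁⟩ : ↥S.WG) rfl]
      refine hteq _ _ ?_
      rw [← Matrix.mulVec_smul, ← hYk]
      exact eL'
    have hw1 := congrArg Subtype.val (eq_one_of_fix_mod S hU hW hreg _ hfixw)
    have hdiag : g⁻¹ * z * g ∈ D.diagonalSubgroup K := by
      rw [ez]; exact mul_mem hd' (S.nL_mem_diag _ L₁ rfl hw1)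
    rw [S.ok.diagonalSubgroup_eq] at hdiag
    obtain ⟨c', hc'⟩ := hdiag
    obtain ⟨e, rfl⟩ := exists_exponents hgen c'
    refine ⟨e, ?_⟩
    change te D ζ e = _ at hc'
    rw [hc']; group
  -- lifts
  obtain ⟨G, hG⟩ : g ∈ (X.th (K := K)).range := by rw [X.range_th]; exact hg
  set nn := G⁻¹ * sig σ D G with hnn
  have hthn : X.th nn = n := by rw [hnn, map_mul, map_inv, X.th_sig, hG]
  rw [S.ok.diagonalSubgroup_eq] at hd₁
  obtain ⟨c₁, rfl⟩ := hd₁
  obtain ⟨-, c₂, -, ec₂⟩ := X.ker_th (g := nn * ((X.pres (K := K)).nLb L)⁻¹ * (X.tor c₁)⁻¹) (by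
    rw [map_mul, map_mul, map_inv, map_inv, hthn, X.th_tor, X.th_nLb, en]; group)
  have enn : nn = X.tor (c₂ * c₁) * (X.pres (K := K)).nLb L := by rw [map_mul, ec₂]; group
  let Tt : (Fin D.rank → ℤ) → D.SteinbergGroup K := fun e => G * X.tor (zc ζ e) * G⁻¹
  have htorconj : ∀ z, nn * X.tor (zc ζ z) * nn⁻¹ = X.tor (zc ζ (matL D L *ᵥ z)) := by
    intro z
    rw [enn, show X.tor (c₂ * c₁) * (X.pres (K := K)).nLb L * X.tor (zc ζ z) *
      (X.tor (c₂ * c₁) * (X.pres (K := K)).nLb L)⁻¹ =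
      X.tor (c₂ * c₁) * ((X.pres (K := K)).nLb L * X.tor (zc ζ z) * ((X.pres (K := K)).nLb L)⁻¹) *
        (X.tor (c₂ * c₁))⁻¹ by group, X.nLb_conj, ← map_mul, ← map_inv, ← map_mul, mul_inv_cancel_comm]
  have hsigT : ∀ e, sig σ D (Tt e) = Tt (matL D L *ᵥ ((q : ℤ) • e)) := by
    intro e
    have e1 : zc ζ e ^ q = zc ζ ((q : ℤ) • e) := funext fun i => by
      simp only [Pi.pow_apply, zc, Pi.smul_apply, smul_eq_mul]
      rw [← zpow_natCast, ← _root_.zpow_mul, mul_comm]
    show sig σ D (G * X.tor (zc ζ e) * G⁻¹) = G * X.tor (zc ζ (matL D L *ᵥ ((q : ℤ) • e))) * G⁻¹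
    rw [map_mul, map_mul, map_inv, X.sig_tor σ hσ, e1, ← htorconj, hnn]
    group
  have hTinj : ∀ u v : Fin D.rank → ℤ, Tt u = Tt v ↔ ∀ i, (u i : ZMod N) = (v i : ZMod N) := by
    intro u v
    show G * X.tor (zc ζ u) * G⁻¹ = G * X.tor (zc ζ v) * G⁻¹ ↔ _
    rw [mul_left_inj, mul_right_inj, X.tor_injective.eq_iff, funext_iff]
    refine forall_congr' fun i => ?_
    rw [ZMod.intCast_eq_intCast_iff, ← hζ]
    exact zpow_eq_zpow_iff_modEq
  -- the fixed part of the torus
  set A : Matrix (Fin D.rank) (Fin D.rank) ℤ := Matrix.scalar (Fin D.rank) (q : ℤ) - matW S hU w with hA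
  have hdet : ∀ b : ℤ, (Matrix.scalar (Fin D.rank) b - matW S hU w).det =
      (Polynomial.cyclotomic 12 ℤ).eval b * (Polynomial.cyclotomic 3 ℤ).eval b := fun b => by
    rw [← Polynomial.eval_mul, ← hchar, Matrix.eval_charpoly]
  have hker : ∀ e : Fin D.rank → ℤ, sig σ D (Tt e) = Tt e ↔ (fun i => (e i : ZMod N)) ∈ kerN N A := by
    intro e
    rw [hsigT, hTinj, mem_kerN, red_mulVec]
    have e1 : ∀ i, (A *ᵥ e) i = (q : ℤ) * e i - (matW S hU w *ᵥ e) i := fun i => by
      simp [hA, Matrix.sub_mulVec, Matrix.scalar_apply, Matrix.mulVec_diagonal]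
    constructor
    · intro h
      funext i
      have h1 := congrFun (red_mulVec N (matW S hU w) (matL D L *ᵥ ((q : ℤ) • e))) i
      rw [hinvmul, funext h, congrFun (red_mulVec N (matW S hU w) e) i] at h1
      rw [e1 i, Int.cast_sub, Pi.zero_apply, sub_eq_zero, h1]
      simp
    · intro h i
      have h2 : (fun i => ((((q : ℤ) • e) i : ℤ) : ZMod N)) = fun i => ((matW S hU w *ᵥ e) i : ZMod N) := by
        funext j
        have h3 := congrFun h j
        rw [e1 j, Int.cast_sub, Pi.zero_apply, sub_eq_zero] at h3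
        simpa using h3
      have h1 := congrFun (red_mulVec N (matL D L) ((q : ℤ) • e)) i
      rw [h2, congrFun (red_mulVec N (matL D L) (matW S hU w *ᵥ e)) i, hmulinv] at h1
      exact h1.symm
  -- the subgroup
  have hval : ∀ b : ↥(kerN N A), ∃ h : ↥(D.group F),
      iota (K := K) D (h : GL D.Idx F) = g * te D ζ (fun i => ((b.1 i).val : ℤ)) * g⁻¹ := by
    intro b
    have he : sig σ D (Tt fun i => ((b.1 i).val : ℤ)) = Tt fun i => ((b.1 i).val : ℤ) := (hker _).2 (by
      convert b.2 using 1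
      funext i
      simp)
    obtain ⟨h, hh, heq⟩ := th_fixed_rational X σ hσ hσF hfix he
    refine ⟨⟨h, hh⟩, heq.trans ?_⟩
    show X.th (G * X.tor _ * G⁻¹) = _
    rw [map_mul, map_mul, map_inv, hG, X.th_tor]
    rfl
  choose ψ hψ using hval
  have hψmul : ∀ b b', ψ (b + b') = ψ b * ψ b' := fun b b' => by
    refine Subtype.ext (iota_injective (K := K) ?_)
    simp only [Subgroup.coe_mul, map_mul, hψ]
    rw [te_congr ζ hζ (z := (fun i => ((b.1 i).val : ℤ)) + fun i => ((b'.1 i).val : ℤ)) (fun i => by simp),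
      te_add]
    group
  let Ψ : Multiplicative ↥(kerN N A) →* ↥(D.group F) := MonoidHom.mk' (fun b => ψ b.toAdd) fun b b' => hψmul _ _
  have hΨval : ∀ (b : ↥(kerN N A)) (e : Fin D.rank → ℤ), (∀ i, (b.1 i) = (e i : ZMod N)) →
      iota (K := K) D ((Ψ (Multiplicative.ofAdd b) : ↥(D.group F)) : GL D.Idx F) = g * te D ζ e * g⁻¹ := by
    intro b e hbe
    show iota (K := K) D ((ψ b : ↥(D.group F)) : GL D.Idx F) = _
    rw [hψ, te_congr ζ hζ (z := e) fun i => by simp [← hbe i]]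
  have hkerΨ : Nat.card ↥Ψ.ker = (q - 1).gcd 3 := by
    have h3 := St.card_torus_ker (F := F) S.ok X.ht
    rw [hd3, Nat.card_eq_fintype_card (α := F)] at h3
    rw [← h3]
    let cK : (Fin D.rank → Fˣ) → (Fin D.rank → Kˣ) := fun c i => Units.map (algebraMap F K : F →* K) (c i)
    have hcex : ∀ c : ↥(Ok.tG D F).ker, ∃ b : ↥Ψ.ker,
        zc ζ (fun i => (((Multiplicative.toAdd b.1).1 i).val : ℤ)) = cK c.1 := by
      intro c
      obtain ⟨e, he⟩ := exists_exponents hgen (cK c.1)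
      have hth : Ok.tG D K (cK c.1) = 1 := by
        rw [← iota_tG, show Ok.tG D F c.1 = 1 from c.2, map_one]
      have hcen : X.tor (cK c.1) ∈ Subgroup.center (D.SteinbergGroup K) :=
        (X.ker_th (by rw [X.th_tor, hth])).1
      have hfixe : sig σ D (Tt e) = Tt e := by
        have e1 : Tt e = X.tor (cK c.1) := by
          show G * X.tor (zc ζ e) * G⁻¹ = _
          rw [he, Subgroup.mem_center_iff.1 hcen, mul_inv_cancel_right]
        rw [e1, X.sig_tor σ hσ]
        congr 1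
        funext i
        refine Units.ext ?_
        rw [Pi.pow_apply, Units.val_pow_eq_pow_val, Units.coe_map]
        show algebraMap F K (c.1 i : F) ^ q = _
        rw [← map_pow, hq, FiniteField.pow_card]
        rfl
      have hb := (hker e).1 hfixe
      have hval' : zc ζ (fun i => (((e i : ℤ) : ZMod N)).val) = cK c.1 := by
        rw [← he]
        funext i
        exact zpow_eq_zpow_iff_modEq.2 (by rw [hζ, ← ZMod.intCast_eq_intCast_iff]; simp)
      refine ⟨⟨Multiplicative.ofAdd ⟨_, hb⟩, ?_⟩, hval'⟩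
      rw [MonoidHom.mem_ker]
      refine Subtype.ext (iota_injective (K := K) ?_)
      rw [hΨval _ e (fun i => rfl), te, he, hth, mul_one, mul_inv_cancel, OneMemClass.coe_one, map_one]
    choose fwd hfwd using hcex
    refine (Nat.card_congr (Equiv.ofBijective fwd ⟨fun c c' hcc => ?_, fun b => ?_⟩)).symm
    · refine Subtype.ext (funext fun i => Units.map_injective (f := (algebraMap F K : F →* K))
        (algebraMap F K).injective ?_)
      have h1 := hfwd c
      rw [hcc, hfwd c'] at h1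
      exact (congrFun h1 i).symm
    · set e : Fin D.rank → ℤ := fun i => (((Multiplicative.toAdd b.1).1 i).val : ℤ) with he
      have hbe : ∀ i, (Multiplicative.toAdd b.1).1 i = (e i : ZMod N) := fun i => by simp [he]
      have hte1 : Ok.tG D K (zc ζ e) = 1 := by
        have h1 := hΨval _ e hbe
        rw [ofAdd_toAdd, show Ψ b.1 = 1 from b.2, OneMemClass.coe_one, map_one, eq_comm, mul_inv_eq_one,
          mul_eq_left] at h1
        exact h1
      have hcen : X.tor (zc ζ e) ∈ Subgroup.center (D.SteinbergGroup K) :=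
        (X.ker_th (by rw [X.th_tor, hte1])).1
      have hfixT : sig σ D (Tt e) = Tt e := (hker e).2 (by
        convert (Multiplicative.toAdd b.1).2 using 1
        funext i
        exact (hbe i).symm)
      have e1 : Tt e = X.tor (zc ζ e) := by
        show G * X.tor (zc ζ e) * G⁻¹ = _
        rw [Subgroup.mem_center_iff.1 hcen, mul_inv_cancel_right]
      rw [e1, X.sig_tor σ hσ, X.tor_injective.eq_iff] at hfixT
      have hci : ∀ i, σ ((zc ζ e i : Kˣ) : K) = zc ζ e i := fun i => by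
        rw [hσ, ← Units.val_pow_eq_pow_val]
        exact congrArg Units.val (congrFun hfixT i)
      choose uu huu using fun i => hfix _ (hci i)
      have hu0 : ∀ i, uu i ≠ 0 := fun i h => (zc ζ e i).ne_zero (by rw [← huu i, h, map_zero])
      let cF : Fin D.rank → Fˣ := fun i => Units.mk0 (uu i) (hu0 i)
      have ecK : cK cF = zc ζ e := funext fun i => Units.ext (huu i)
      have hcF : Ok.tG D F cF = 1 := iota_injective (K := K) (by rw [iota_tG, map_one]; rw [← ecK] at hte1; exact hte1)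
      refine ⟨⟨cF, hcF⟩, Subtype.ext ?_⟩
      have h1 := hfwd ⟨cF, hcF⟩
      rw [ecK] at h1
      refine Multiplicative.toAdd.injective (Subtype.ext (funext fun i => ?_))
      have h2 := zpow_eq_zpow_iff_modEq.1 (congrFun h1 i)
      rw [hζ, ← ZMod.intCast_eq_intCast_iff] at h2
      simpa [he] using h2
  have hΨcomm : ∀ a b : ↥Ψ.range, a * b = b * a := by
    rintro ⟨_, a, rfl⟩ ⟨_, b, rfl⟩
    exact Subtype.ext (show Ψ a * Ψ b = Ψ b * Ψ a by rw [← map_mul, ← map_mul, mul_comm])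
  have hx₀mem : x₀ ∈ Ψ.range := by
    obtain ⟨X0, hX0, hXe⟩ := exists_fixed_lift X σ hσF x₀.2
    obtain ⟨-, c₃, hc₃, ec₃⟩ := X.ker_th (g := G⁻¹ * X0 * G * (X.tor (zc ζ Y))⁻¹) (by
      rw [map_mul, map_mul, map_mul, map_inv, map_inv, hG, hXe, ← hxdef, X.th_tor,
        show Ok.tG D K (zc ζ Y) = g⁻¹ * x * g from hteY]
      group)
    obtain ⟨e, he⟩ := exists_exponents hgen (c₃ * zc ζ Y)
    have e1 : Tt e = X0 := by
      show G * X.tor (zc ζ e) * G⁻¹ = X0
      rw [he, map_mul, ec₃]; group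
    have hb := (hker e).1 (by rw [e1]; exact hX0)
    refine ⟨Multiplicative.ofAdd ⟨_, hb⟩, Subtype.ext (iota_injective (K := K) ?_)⟩
    rw [hΨval _ e (fun i => rfl), te, he, map_mul, hc₃, one_mul, ← hxdef, hxY]
    rfl
  refine ⟨Ψ.range, ?_, ?_, ?_⟩
  · haveI hcyc : IsAddCyclic ↥(kerN N A) := by
      refine isAddCyclic_of_prime_torsion fun s hs => ?_
      haveI := Fact.mk hs
      by_cases hdiv : (s : ℤ) ∣ (Polynomial.cyclotomic 12 ℤ).eval (q : ℤ) * (Polynomial.cyclotomic 3 ℤ).eval (q : ℤ)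
      · obtain ⟨q', hq', hnd⟩ : ∃ q' : ℤ, (q' : ZMod s) = ((q : ℤ) : ZMod s) ∧ ¬ (s : ℤ) ^ 2 ∣
            (Polynomial.cyclotomic 12 ℤ).eval q' * (Polynomial.cyclotomic 3 ℤ).eval q' := by
          have hsp : Prime (s : ℤ) := Nat.prime_iff_prime_int.1 hs
          have hnot : ∀ z : ℤ, (s : ℤ) ∣ (Polynomial.cyclotomic 12 ℤ).eval z →
              ¬ (s : ℤ) ∣ (Polynomial.cyclotomic 3 ℤ).eval z := by
            intro z h1 h2
            rw [eval_cyclotomic_twelve] at h1
            rw [eval_three] at h2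
            have h3 : (s : ℤ) ∣ 2 := by
              have := dvd_sub (h2.mul_left (z ^ 3 - z ^ 2 - z + 2)) (h1.mul_left z)
              rwa [show (z ^ 3 - z ^ 2 - z + 2) * (z ^ 2 + z + 1) - z * (z ^ 4 - z ^ 2 + 1) = 2 by ring] at this
            have h4 : s ∣ 2 := by exact_mod_cast h3
            obtain rfl := (Nat.prime_dvd_prime_iff_eq hs Nat.prime_two).1 h4
            rw [← ZMod.intCast_zmod_eq_zero_iff_dvd] at h2
            push_cast at h2
            exact three_mod_two _ h2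
          have hcomb : ∀ (A B : ℤ → ℤ) (q' : ℤ), (∀ z, (s : ℤ) ∣ A z → ¬ (s : ℤ) ∣ B z) → (s : ℤ) ∣ A q' →
              ¬ (s : ℤ) ^ 2 ∣ A q' → ¬ (s : ℤ) ^ 2 ∣ A q' * B q' := fun A B q' hAB hA hA2 h =>
            hA2 (hsp.pow_dvd_of_dvd_mul_right 2 (hAB q' hA) h)
          have hcongr : ∀ (d : ℕ) (q' : ℤ), (q' : ZMod s) = ((q : ℤ) : ZMod s) →
              (s : ℤ) ∣ (Polynomial.cyclotomic d ℤ).eval (q : ℤ) → (s : ℤ) ∣ (Polynomial.cyclotomic d ℤ).eval q' :=
            fun d q' h h1 => by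
              rw [ZMod.intCast_eq_intCast_iff_dvd_sub] at h
              exact (dvd_iff_dvd_of_dvd_sub (h.trans (Polynomial.sub_dvd_eval_sub _ _ _))).1 h1
          rcases hsp.dvd_or_dvd hdiv with h | h
          · have hs12 : ¬ s ∣ 12 := fun h12 => by
              have hs23 : s = 2 ∨ s = 3 := by
                rw [show (12 : ℕ) = 2 ^ 2 * 3 by norm_num] at h12
                rcases hs.dvd_mul.1 h12 with h' | h'
                · exact Or.inl ((Nat.prime_dvd_prime_iff_eq hs Nat.prime_two).1 (hs.dvd_of_dvd_pow h'))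
                · exact Or.inr ((Nat.prime_dvd_prime_iff_eq hs Nat.prime_three).1 h')
              rw [eval_cyclotomic_twelve, ← ZMod.intCast_zmod_eq_zero_iff_dvd] at h
              push_cast at h
              rcases hs23 with rfl | rfl
              · exact twelve_mod_two _ h
              · exact twelve_mod_three _ h
            obtain ⟨q', hq', hnd⟩ := exists_square_test 12 _ s hs hs12 h
            exact ⟨q', hq', hcomb (fun z => (Polynomial.cyclotomic 12 ℤ).eval z)
              (fun z => (Polynomial.cyclotomic 3 ℤ).eval z) q' hnot (hcongr 12 q' hq' h) hnd⟩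
          · obtain ⟨q', hq', hnd⟩ : ∃ q' : ℤ, (q' : ZMod s) = ((q : ℤ) : ZMod s) ∧
                ¬ (s : ℤ) ^ 2 ∣ (Polynomial.cyclotomic 3 ℤ).eval q' := by
              by_cases hs3 : s ∣ 3
              · obtain rfl := (Nat.prime_dvd_prime_iff_eq hs Nat.prime_three).1 hs3
                refine ⟨1, ?_, by rw [eval_three]; norm_num⟩
                rw [eval_three, ← ZMod.intCast_zmod_eq_zero_iff_dvd] at h
                push_cast at h ⊢
                exact (three_mod_three _ h).symm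
              · exact exists_square_test 3 _ s hs hs3 h
            refine ⟨q', hq', ?_⟩
            rw [mul_comm]
            exact hcomb (fun z => (Polynomial.cyclotomic 3 ℤ).eval z)
              (fun z => (Polynomial.cyclotomic 12 ℤ).eval z) q' (fun z h3 h12 => hnot z h12 h3)
              (hcongr 3 q' hq' h) hnd
        refine card_torsion_kerN_le A (Matrix.scalar (Fin D.rank) q' - matW S hU w) (fun i j => ?_) (by rwa [hdet])
        rw [hA, Matrix.sub_apply, Matrix.sub_apply, Matrix.scalar_apply, Matrix.scalar_apply, Matrix.diagonal_apply,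
          Matrix.diagonal_apply, Int.cast_sub, Int.cast_sub]
        split_ifs <;> simp [hq']
      · refine card_torsion_kerN_le A A (fun i j => rfl) fun h => hdiv ?_
        rw [hA, hdet] at h
        exact dvd_trans (dvd_pow_self _ two_ne_zero) h
    exact isCyclic_of_surjective Ψ.rangeRestrict Ψ.rangeRestrict_surjective
  · have hpos : 0 < (Polynomial.cyclotomic 12 ℤ).eval (q : ℤ) * (Polynomial.cyclotomic 3 ℤ).eval (q : ℤ) :=
      mul_pos (Polynomial.cyclotomic_pos' 12 (x := (q : ℤ)) (by exact_mod_cast hq2))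
        (Polynomial.cyclotomic_pos' 3 (x := (q : ℤ)) (by exact_mod_cast hq2))
    have hdvd : (A.det.natAbs : ℕ) ∣ N := by
      rw [hA, hdet, ← Int.natCast_dvd_natCast, Int.natAbs_of_nonneg hpos.le, hNdef, hK,
        Nat.cast_sub (Nat.one_le_pow _ _ (by omega))]
      have h1 : Polynomial.cyclotomic 12 ℤ * Polynomial.cyclotomic 3 ℤ ∣ Polynomial.X ^ 12 - 1 := by
        rw [← Polynomial.prod_cyclotomic_eq_X_pow_sub_one (by norm_num : 0 < 12),
          ← Finset.prod_pair (show (12 : ℕ) ≠ 3 by norm_num) (f := fun i => Polynomial.cyclotomic i ℤ)]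
        exact Finset.prod_dvd_prod_of_subset _ _ _ (by decide)
      have h2 := Polynomial.eval_dvd (x := (q : ℤ)) h1
      simpa using h2
    have hcard := card_kerN (N := N) A (by rw [hA, hdet]; exact hpos.ne') hdvd
    have h1 := Ψ.ker.index_mul_card
    rw [Subgroup.index_ker, hkerΨ, Nat.card_congr Multiplicative.toAdd, hcard,
      show A.det = _ from (congrArg Matrix.det hA).trans (hdet _)] at h1
    rw [← Nat.cast_mul, h1, Int.natAbs_of_nonneg hpos.le]
  · refine le_antisymm ?_ ?_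
    · intro z hz
      rw [Subgroup.mem_centralizer_iff] at hz
      have hzx : iota (K := K) D (z : GL D.Idx F) * x = x * iota (K := K) D (z : GL D.Idx F) := by
        have h1 := congrArg (fun t : ↥(D.group F) => iota (K := K) D (t : GL D.Idx F)) (hz x₀ hx₀mem)
        simpa [hxdef] using h1.symm
      obtain ⟨e, he⟩ := hcent _ (iota_group S z.2) hzx
      obtain ⟨Z, hZfix, hZe⟩ := exists_fixed_lift X σ hσF z.2
      obtain ⟨-, c₃, hc₃, ec₃⟩ := X.ker_th (g := G⁻¹ * Z * G * (X.tor (zc ζ e))⁻¹) (by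
        rw [map_mul, map_mul, map_mul, map_inv, map_inv, hG, hZe, he, X.th_tor, te]; group)
      obtain ⟨e', he'⟩ := exists_exponents hgen (c₃ * zc ζ e)
      have e1 : Tt e' = Z := by
        show G * X.tor (zc ζ e') * G⁻¹ = Z
        rw [he', map_mul, ec₃]; group
      have hb := (hker e').1 (by rw [e1]; exact hZfix)
      refine ⟨Multiplicative.ofAdd ⟨_, hb⟩, Subtype.ext (iota_injective (K := K) ?_)⟩
      rw [hΨval _ e' (fun i => rfl), te, he', map_mul, hc₃, one_mul, he]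
      rfl
    · intro a ha
      rw [Subgroup.mem_centralizer_iff]
      intro b hb
      exact congrArg Subtype.val (hΨcomm ⟨b, hb⟩ ⟨a, ha⟩)

end Cfsg.Lib.CyclicTorus
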