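import Cfsg.Agent.Chev.CyclicTorus.Weyl

/-! A Weyl group element of type `E6` with an eigenvalue of order twelve modulo a prime: it is regular, of order twelve,
with characteristic polynomial `Φ₁₂Φ₃`. -/

set_option autoImplicit false
set_option linter.unusedSectionVars false
set_option linter.style.haveILetI false
set_option maxHeartbeats 800000

open Cfsg.Lie

namespace Cfsg.Lib.CyclicTorus

open Cfsg.Lib.Chev Matrix Polynomial

/-- If every return time of a permutation is divisible by `n` then so is the number of points. -/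
theorem dvd_card_of_period {α : Type*} [Fintype α] (f : Equiv.Perm α) (n : ℕ)
    (h : ∀ (a : α) (k : ℕ), (f ^ k) a = a → n ∣ k) : n ∣ Fintype.card α := by
  classical
  let G := Subgroup.zpowers f
  rw [Fintype.card_congr (MulAction.selfEquivSigmaOrbits ↥G α), Fintype.card_sigma]
  refine Finset.dvd_sum fun o _ => ?_
  have key : ∀ a : α, n ∣ Nat.card (MulAction.orbit ↥G a) := fun a => by
    haveI := Fintype.ofFinite (MulAction.orbit ↥G a)
    rw [Nat.card_eq_fintype_card, show Fintype.card (MulAction.orbit ↥G a) =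
      Function.minimalPeriod (f • ·) a from (MulAction.minimalPeriod_eq_card (a := f) (b := a)).symm]
    refine h a _ ?_
    have := MulAction.pow_smul_eq_iff_minimalPeriod_dvd (a := f) (b := a)
      (n := Function.minimalPeriod (f • ·) a)
    exact this.2 dvd_rfl
  rw [← Nat.card_eq_fintype_card]
  exact key _

theorem linearIndependent_orbit {l d : ℕ} (M : Matrix (Fin l) (Fin l) ℚ) (hd : 0 < d) {z : Fin l → ℚ} (hz : z ≠ 0)
    (h : aeval M (cyclotomic d ℚ) *ᵥ z = 0) :
    LinearIndependent ℚ (fun k : Fin d.totient => M ^ (k : ℕ) *ᵥ z) := by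
  classical
  rw [Fintype.linearIndependent_iff]
  intro a ha i
  let P : ℚ[X] := ∑ k : Fin d.totient, Polynomial.monomial (k : ℕ) (a k)
  have hP : aeval M P *ᵥ z = 0 := by
    rw [← ha]
    simp only [P, map_sum, aeval_monomial, Matrix.sum_mulVec]
    refine Finset.sum_congr rfl fun k _ => ?_
    rw [← Algebra.smul_def, Matrix.smul_mulVec]
  by_contra hne
  have hP0 : P ≠ 0 := by
    intro h0
    have h1 := congrArg (fun p : ℚ[X] => p.coeff i) h0
    simp only [P, finsetSum_coeff, coeff_monomial, coeff_zero] at h1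
    rw [Finset.sum_eq_single i (fun b _ hb => if_neg (fun e => hb (Fin.ext e))) (by simp), if_pos rfl] at h1
    exact hne h1
  have hdegP : P.natDegree < d.totient := by
    refine lt_of_le_of_lt (natDegree_sum_le_of_forall_le _ _ (n := d.totient - 1) fun k _ => ?_)
      (by have := i.isLt; omega)
    exact (natDegree_monomial_le _).trans (by have := k.isLt; omega)
  have hcop : IsCoprime (cyclotomic d ℚ) P := (cyclotomic.irreducible_rat hd).coprime_iff_not_dvd.2 fun hdv => by
    have := natDegree_le_of_dvd hdv hP0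
    rw [natDegree_cyclotomic] at this
    omega
  obtain ⟨u, v, huv⟩ := hcop
  have h1 := congrArg (fun R => aeval M R *ᵥ z) huv
  simp only [map_add, map_mul, map_one, Matrix.one_mulVec, Matrix.add_mulVec, ← Matrix.mulVec_mulVec, h, hP,
    Matrix.mulVec_zero, add_zero] at h1
  exact hz h1.symm

variable {D : ChevalleyDatum} {C : Cert}

/-- The reduction modulo two of the coefficient vector of a root. -/
def cm (D : ChevalleyDatum) (s : ℕ) : Fin D.rank → ZMod 2 := fun j => (D.cartan j s : ZMod 2)

theorem card_image_le_four (hl : D.rank = 6) (S : Struct D C) (Ψ : Finset (Fin D.nroots))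
    (v : Fin 4 → Fin D.rank → ℚ) (hv : LinearIndependent ℚ v)
    (h : ∀ s ∈ Ψ, ∀ k, (fun j : Fin D.rank => (D.cartan j s : ℚ)) ⬝ᵥ v k = 0) :
    ∃ T : Finset (Fin D.rank → ZMod 2), T.card ≤ 4 ∧ (0 : Fin D.rank → ZMod 2) ∈ T ∧ ∀ s ∈ Ψ, cm D s ∈ T := by
  classical
  let A : Submodule ℤ (Fin D.rank → ℤ) :=
    { carrier := {c | ∀ k, (fun j => (c j : ℚ)) ⬝ᵥ v k = 0}
      zero_mem' := fun k => by simp [dotProduct]
      add_mem' := fun {a b} ha hb k => by
        have e : (fun j => ((a + b) j : ℚ)) = (fun j => (a j : ℚ)) + fun j => (b j : ℚ) := by funext j; simp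
        rw [e, add_dotProduct, ha k, hb k, add_zero]
      smul_mem' := fun c a ha k => by
        have e : (fun j => ((c • a) j : ℚ)) = (c : ℚ) • fun j => (a j : ℚ) := by funext j; simp
        rw [e, smul_dotProduct, ha k, smul_zero] }
  let b := Module.Free.chooseBasis ℤ A
  let ι := Module.Free.ChooseBasisIndex ℤ A
  let f : (Fin D.rank → ℤ) →ₗ[ℤ] (Fin D.rank → ℚ) :=
    { toFun := fun c j => (c j : ℚ)
      map_add' := fun a b => by funext j; simp
      map_smul' := fun c a => by funext j; simp }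
  have hfinj : Function.Injective f := fun a b hab => funext fun j => Int.cast_injective (congrFun hab j)
  have hbi : LinearIndependent ℚ (fun i : ι => f (b i : Fin D.rank → ℤ)) := by
    rw [← LinearIndependent.iff_fractionRing ℤ ℚ]
    exact (b.linearIndependent.map' A.subtype (Submodule.ker_subtype A)).map' f (LinearMap.ker_eq_bot.2 hfinj)
  let M : Matrix (Fin 4) (Fin D.rank) ℚ := Matrix.of v
  let U : Submodule ℚ (Fin D.rank → ℚ) := M.mulVecLin.ker
  have hU : Module.finrank ℚ U = 2 := by
    have h1 := M.mulVecLin.finrank_range_add_finrank_ker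
    have h2 : M.rank = 4 := by
      simpa [Fintype.card_fin] using LinearIndependent.rank_matrix (M := M) hv
    rw [Matrix.rank] at h2
    have h3 : Module.finrank ℚ (Fin D.rank → ℚ) = 6 := by rw [Module.finrank_fin_fun, hl]
    show Module.finrank ℚ M.mulVecLin.ker = 2
    omega
  have hmem : ∀ i : ι, f (b i : Fin D.rank → ℤ) ∈ U := fun i => by
    rw [LinearMap.mem_ker]
    funext k
    show v k ⬝ᵥ _ = 0
    rw [dotProduct_comm]
    exact (b i).2 k
  have hι : Fintype.card ι ≤ 2 := by
    rw [← hU]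
    exact (LinearIndependent.of_comp U.subtype (v := fun i => (⟨_, hmem i⟩ : U)) hbi).fintype_card_le_finrank
  let g : (ι → ZMod 2) → (Fin D.rank → ZMod 2) := fun a j => ∑ i, a i * (((b i : Fin D.rank → ℤ) j : ℤ) : ZMod 2)
  refine ⟨Finset.univ.image g, ?_, Finset.mem_image.2 ⟨0, Finset.mem_univ _, funext fun j => by simp [g]⟩, ?_⟩
  · refine Finset.card_image_le.trans ?_
    rw [Finset.card_univ, Fintype.card_fun, ZMod.card]
    exact (Nat.pow_le_pow_right (by norm_num) hι).trans (by norm_num)
  · intro s hs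
    have hc : (fun j : Fin D.rank => D.cartan j s) ∈ A := h s hs
    refine Finset.mem_image.2 ⟨fun i => ((b.repr ⟨_, hc⟩ i : ℤ) : ZMod 2), Finset.mem_univ _, funext fun j => ?_⟩
    have e := congrArg (fun a : A => ((((a : Fin D.rank → ℤ) j) : ℤ) : ZMod 2)) (b.sum_repr ⟨_, hc⟩)
    simp only [Submodule.coe_sum, Finset.sum_apply, Submodule.coe_smul, Pi.smul_apply, smul_eq_mul, Int.cast_sum,
      Int.cast_mul] at e
    exact e

/-- Certificate of the combinatorial facts used. -/
def okE6 (D : ChevalleyDatum) (v : List ℤ) : Bool :=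
  decide (D.rank = 6) && decide (D.nroots % 12 = 0) &&
  ((List.range D.nroots).all fun s => (List.range D.rank).any fun j => decide (D.cartan j s % 2 ≠ 0)) &&
  ((List.range D.nroots).all fun s => (List.range D.nroots).all fun t =>
    decide (t = s) || decide (t = D.neg s) ||
      (List.range D.rank).any fun j => decide ((D.cartan j s - D.cartan j t) % 2 ≠ 0)) &&
  ((List.range 64).all fun m => decide (m = 0) ||
    decide ((((List.range D.nroots).filter fun s =>
      decide (((List.range D.rank).map fun j => D.cartan j s * ((m / 2 ^ j % 2 : ℕ) : ℤ)).sum % 2 = 0)).length) % 3 ≠ 0)) &&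
  ((List.range D.rank).any fun i => decide (v.getD i 0 % 3 ≠ 0)) &&
  ((List.range D.rank).all fun m =>
    decide (((List.range D.rank).map fun i => v.getD i 0 * D.cartan i (D.simple m)).sum % 3 = 0))

theorem okE6_chevE6 : okE6 chevE6 [1, 0, 2, 0, 1, 2] = true := by decide +kernel

structure E6Facts (D : ChevalleyDatum) : Prop where
  rank : D.rank = 6
  twelve : 12 ∣ D.nroots
  nz : ∀ s : Fin D.nroots, cm D s ≠ 0
  pairs : ∀ s t : Fin D.nroots, cm D s = cm D t → t = s ∨ t.val = D.neg s.val
  count : ∀ z : Fin D.rank → ℤ, (∃ i, (z i : ZMod 2) ≠ 0) →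
    ¬ 3 ∣ Fintype.card {s : Fin D.nroots // (chiZ D s z : ZMod 2) = 0}
  rad : ∃ v : Fin D.rank → ℤ, (∃ i, (v i : ZMod 3) ≠ 0) ∧ ∀ m : Fin D.rank, (chiZ D (D.simple m) v : ZMod 3) = 0

theorem e6Facts {v : List ℤ} (h : okE6 D v = true) : E6Facts D := by
  simp only [okE6, Bool.and_eq_true, decide_eq_true_eq, List.all_eq_true, List.any_eq_true, List.mem_range,
    Bool.or_eq_true] at h
  obtain ⟨⟨⟨⟨⟨⟨hl, h12⟩, hnz⟩, hp⟩, hc⟩, hv0⟩, hv⟩ := h
  have h2 : ∀ a : ℤ, (a : ZMod 2) = 0 ↔ a % 2 = 0 := fun a => by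
    rw [ZMod.intCast_zmod_eq_zero_iff_dvd]
    exact Int.dvd_iff_emod_eq_zero
  refine ⟨hl, Nat.dvd_of_mod_eq_zero h12, fun s hs => ?_, fun s t hst => ?_, fun z hz => ?_, ?_⟩
  · obtain ⟨j, hj, hne⟩ := hnz s s.isLt
    exact hne ((h2 _).1 (congrFun hs ⟨j, hj⟩))
  · rcases hp s s.isLt t t.isLt with (h | h) | ⟨j, hj, hne⟩
    · exact Or.inl (Fin.ext h)
    · exact Or.inr h
    · refine absurd ((h2 _).1 ?_) hne
      have := congrFun hst ⟨j, hj⟩
      simp only [cm] at this
      rw [Int.cast_sub, this, sub_self]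
  · let bits : Fin D.rank → Fin 2 := fun i => ⟨((z i : ℤ) : ZMod 2).val, ZMod.val_lt _⟩
    let e : Fin D.rank → Fin 2 := bits
    let m : Fin 64 := Fin.cast (by rw [hl]; norm_num) (finFunctionFinEquiv e)
    have hbit : ∀ j : Fin D.rank, (m : ℕ) / 2 ^ (j : ℕ) % 2 = ((z j : ℤ) : ZMod 2).val := fun j => by
      have := congrFun (finFunctionFinEquiv.symm_apply_apply e) j
      exact congrArg Fin.val this
    have hm0 : (m : ℕ) ≠ 0 := fun h0 => by
      obtain ⟨i, hi⟩ := hz
      have := hbit i
      rw [h0, Nat.zero_div, Nat.zero_mod] at this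
      exact hi ((ZMod.val_eq_zero _).1 this.symm)
    have hsum : ∀ s : ℕ, (chiZ D s z : ZMod 2) = 0 ↔
        ((List.range D.rank).map fun j => D.cartan j s * (((m : ℕ) / 2 ^ j % 2 : ℕ) : ℤ)).sum % 2 = 0 := fun s => by
      rw [← h2]
      refine iff_of_eq (congrArg (· = (0 : ZMod 2)) ?_)
      rw [← List.map_coe_finRange_eq_range, List.map_map, ← List.ofFn_eq_map, List.sum_ofFn]
      simp only [chiZ, Function.comp_apply, Int.cast_sum, Int.cast_mul, hbit, Int.cast_natCast, ZMod.natCast_zmod_val]
    rcases hc m m.isLt with h | h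
    · exact absurd h hm0
    · intro h3
      refine h (Nat.mod_eq_zero_of_dvd ?_)
      convert h3 using 1
      rw [Fintype.card_subtype, ← List.toFinset_card_of_nodup (List.nodup_range.filter _)]
      symm
      refine Finset.card_bij (fun s _ => (s : ℕ)) (fun s hs => ?_) (fun a _ b _ e => Fin.ext e) (fun t ht => ?_)
      · simp only [Finset.mem_filter, Finset.mem_univ, true_and] at hs
        simp only [List.mem_toFinset, List.mem_filter, List.mem_range, decide_eq_true_eq, s.isLt, true_and]
        exact (hsum s).1 hs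
      · simp only [List.mem_toFinset, List.mem_filter, List.mem_range, decide_eq_true_eq] at ht
        exact ⟨⟨t, ht.1⟩, by simpa using (hsum t).2 ht.2, rfl⟩
  · obtain ⟨i, hi, hne⟩ := hv0
    refine ⟨fun j => v.getD j 0, ⟨⟨i, hi⟩, fun h => hne ?_⟩, fun m => ?_⟩
    · rw [ZMod.intCast_zmod_eq_zero_iff_dvd] at h
      exact Int.emod_eq_zero_of_dvd h
    · rw [ZMod.intCast_zmod_eq_zero_iff_dvd]
      refine Int.dvd_of_emod_eq_zero ?_
      have := hv m m.isLt
      rw [← List.map_coe_finRange_eq_range, List.map_map, ← List.ofFn_eq_map, List.sum_ofFn] at this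
      simpa [chiZ, Function.comp, mul_comm] using this

end Cfsg.Lib.CyclicTorus
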